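import Mathlib
import Cfsg.Prelude.Def_Solvable
import Cfsg.Agent.Lib.Grp.Cores
import Cfsg.Agent.Lib.Grp.Baer

/-!
Two-generated subgroups and the second Fitting subgroup: the moved part `mvd y Q` of a q-group `Q`
under an element `y`, its behaviour inside a subgroup with `y` in the second Fitting subgroup, and
the slot lemma placing a commutator, `y` and a normalising element in one proper subgroup.
-/

set_option autoImplicit false
set_option linter.style.haveILetI false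
set_option linter.unusedSectionVars false

namespace Cfsg.Agent.Fus.F2Pairs

open Subgroup

universe u

variable {G : Type u} [Group G]

/-- The second Fitting subgroup, in the form used by the statement. -/
def ftwo (G : Type u) [Group G] : Subgroup G :=
  haveI : (Cfsg.fittingSubgroup G).Normal := Grp.fittingSubgroup_isNormal
  (Cfsg.fittingSubgroup (G ⧸ Cfsg.fittingSubgroup G)).comap
    (QuotientGroup.mk' (Cfsg.fittingSubgroup G))

/-- The subgroup generated by the commutators of `y` with the elements of `Q`. -/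
def mvd (y : G) (Q : Subgroup G) : Subgroup G :=
  closure {c | ∃ w ∈ Q, c = w * y * w⁻¹ * y⁻¹}

/-- `O_q(H)` as a subgroup of the ambient group. -/
def coreIn (q : ℕ) (H : Subgroup G) : Subgroup G := (Cfsg.pCore q H).map H.subtype

/-- The conditions on one element. -/
structure Hyp (p : ℕ) (y : G) : Prop where
  ord : orderOf y = p
  mem : ∀ H : Subgroup G, H ≠ ⊤ → ∀ hy : y ∈ H, (⟨y, hy⟩ : H) ∈ ftwo H
  pair : ∀ g : G, closure ({y, g} : Set G) ≠ ⊤

/-- A smallest counterexample. -/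
structure Setting (p : ℕ) (x : G) : Prop where
  hyp : ∀ g : G, Hyp p (g * x * g⁻¹)
  noSolv : ∀ N : Subgroup G, N.Normal → Group.IsSolvable N → N = ⊥
  cent : centralizer (normalClosure ({x} : Set G) : Set G) = ⊥

theorem mem_normalizer_of_gen [Finite G] {S : Set G} {a : G}
    (h : ∀ z ∈ S, a * z * a⁻¹ ∈ closure S) : a ∈ normalizer (closure S : Set G) := by
  rw [mem_normalizer_iff_map_conj_eq]
  refine eq_of_le_of_card_ge ?_ (card_map_of_injective (MulAut.conj a).injective).ge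
  rw [MonoidHom.map_closure, closure_le]
  rintro _ ⟨z, hz, rfl⟩
  exact h z hz

theorem mem_normalizer_conj {K : Subgroup G} {a z : G} (ha : a ∈ normalizer (K : Set G)) (hz : z ∈ K) :
    a * z * a⁻¹ ∈ K := (mem_normalizer_iff.1 ha z).1 hz

section Moved

variable {y : G} {Q : Subgroup G}

theorem cm_mem_mvd {w : G} (hw : w ∈ Q) : w * y * w⁻¹ * y⁻¹ ∈ mvd y Q :=
  Subgroup.subset_closure ⟨w, hw, rfl⟩

theorem mvd_mono {Q' : Subgroup G} (h : Q ≤ Q') : mvd y Q ≤ mvd y Q' :=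
  closure_mono fun _ ⟨w, hw, e⟩ => ⟨w, h hw, e⟩

theorem mvd_le (hy : y ∈ normalizer (Q : Set G)) : mvd y Q ≤ Q := by
  rw [mvd, closure_le]
  rintro _ ⟨w, hw, rfl⟩
  have : y * w⁻¹ * y⁻¹ ∈ Q := (mem_normalizer_iff.1 hy _).1 (inv_mem hw)
  rw [show w * y * w⁻¹ * y⁻¹ = w * (y * w⁻¹ * y⁻¹) by group]
  exact mul_mem hw this

theorem le_normalizer_mvd [Finite G] : Q ≤ normalizer (mvd y Q : Set G) := by
  intro a ha
  refine mem_normalizer_of_gen ?_
  rintro _ ⟨w, hw, rfl⟩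
  rw [show a * (w * y * w⁻¹ * y⁻¹) * a⁻¹ =
    (a * w * y * (a * w)⁻¹ * y⁻¹) * (a * y * a⁻¹ * y⁻¹)⁻¹ by group]
  exact mul_mem (cm_mem_mvd (mul_mem ha hw)) (inv_mem (cm_mem_mvd ha))

theorem mem_normalizer_mvd [Finite G] (hy : y ∈ normalizer (Q : Set G)) :
    y ∈ normalizer (mvd y Q : Set G) := by
  refine mem_normalizer_of_gen ?_
  rintro _ ⟨w, hw, rfl⟩
  rw [show y * (w * y * w⁻¹ * y⁻¹) * y⁻¹ = (y * w * y⁻¹) * y * (y * w * y⁻¹)⁻¹ * y⁻¹ by group]
  exact cm_mem_mvd (mem_normalizer_conj hy hw)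

theorem commute_of_cm {w : G} (h : w * y * w⁻¹ * y⁻¹ = 1) : Commute w y :=
  mul_inv_eq_iff_eq_mul.1 (mul_inv_eq_one.1 h)

theorem cm_eq_one {w : G} (h : Commute w y) : w * y * w⁻¹ * y⁻¹ = 1 := by
  rw [h.eq, mul_inv_cancel_right, mul_inv_cancel]

theorem mvd_eq_bot_iff : mvd y Q = ⊥ ↔ ∀ w ∈ Q, Commute w y := by
  refine ⟨fun h w hw => commute_of_cm (mem_bot.1 (h ▸ cm_mem_mvd hw)), fun h => ?_⟩
  rw [mvd, eq_bot_iff, closure_le]
  rintro _ ⟨w, hw, rfl⟩
  exact mem_bot.2 (cm_eq_one (h w hw))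

/-- Replacing `y` by one of its powers. -/
theorem cm_pow_mem [Finite G] (hy : y ∈ normalizer (Q : Set G)) (i : ℕ) :
    ∀ {w : G}, w ∈ Q → w * y ^ i * w⁻¹ * (y ^ i)⁻¹ ∈ mvd y Q := by
  induction i with
  | zero => intro w _; simp
  | succ i ih =>
    intro w hw
    rw [show w * y ^ (i + 1) * w⁻¹ * (y ^ (i + 1))⁻¹ = (w * y * w⁻¹ * y⁻¹) *
      (y * (w * y ^ i * w⁻¹ * (y ^ i)⁻¹) * y⁻¹) by rw [pow_succ' y i]; group]
    exact mul_mem (cm_mem_mvd hw) (mem_normalizer_conj (mem_normalizer_mvd hy) (ih hw))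

theorem cm_zpowers_mem [Finite G] (hy : y ∈ normalizer (Q : Set G)) {a w : G} (ha : a ∈ zpowers y)
    (hw : w ∈ Q) : w * a * w⁻¹ * a⁻¹ ∈ mvd y Q := by
  obtain ⟨i, rfl⟩ := mem_powers_iff_mem_zpowers.2 ha
  exact cm_pow_mem hy i hw

theorem mvd_zpowers_le [Finite G] (hy : y ∈ normalizer (Q : Set G)) {a : G} (ha : a ∈ zpowers y) :
    mvd a Q ≤ mvd y Q := by
  rw [mvd, closure_le]
  rintro _ ⟨w, hw, rfl⟩
  exact cm_zpowers_mem hy ha hw

theorem mvd_map (g : G) : (mvd y Q).map (MulAut.conj g).toMonoidHom =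
    mvd (g * y * g⁻¹) (Q.map (MulAut.conj g).toMonoidHom) := by
  rw [mvd, MonoidHom.map_closure, mvd]
  congr 1
  ext c
  constructor
  · rintro ⟨_, ⟨w, hw, rfl⟩, rfl⟩
    exact ⟨g * w * g⁻¹, ⟨w, hw, rfl⟩, by simp [mul_assoc]⟩
  · rintro ⟨_, ⟨w, hw, rfl⟩, rfl⟩
    exact ⟨_, ⟨w, hw, rfl⟩, by simp [mul_assoc]⟩

end Moved

section Coset

variable [Finite G] {p q : ℕ}

/-- A p-group normalising a q-group and a coset of it fixes an element of the coset. -/
theorem exists_fixed_coset (hp : p.Prime) (hq : q.Prime) (hqp : q ≠ p) {A N : Subgroup G}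
    (hA : IsPGroup p A) (hN : IsPGroup q N) (hAN : A ≤ normalizer (N : Set G)) {w : G}
    (hw : ∀ a ∈ A, a * w * a⁻¹ * w⁻¹ ∈ N) : ∃ u ∈ N, ∀ a ∈ A, Commute a (u * w) := by
  haveI := Fact.mk hp
  haveI := Fact.mk hq
  letI act : MulAction A N :=
    { smul := fun a n => ⟨(a : G) * n * (a : G)⁻¹ * ((a : G) * w * (a : G)⁻¹ * w⁻¹),
        mul_mem (mem_normalizer_conj (hAN a.2) n.2) (hw a a.2)⟩
      one_smul := fun n => Subtype.ext (by
        show ((1 : A) : G) * n * ((1 : A) : G)⁻¹ * (((1 : A) : G) * w * ((1 : A) : G)⁻¹ * w⁻¹) = n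
        rw [Subgroup.coe_one]; group)
      mul_smul := fun a b n => Subtype.ext (by
        show ((a * b : A) : G) * n * ((a * b : A) : G)⁻¹ *
            (((a * b : A) : G) * w * ((a * b : A) : G)⁻¹ * w⁻¹) =
          (a : G) * ((b : G) * n * (b : G)⁻¹ * ((b : G) * w * (b : G)⁻¹ * w⁻¹)) * (a : G)⁻¹ *
            ((a : G) * w * (a : G)⁻¹ * w⁻¹)
        rw [Subgroup.coe_mul]; group) }
  have hnd : ¬ p ∣ Nat.card N := by
    obtain ⟨k, hk⟩ := IsPGroup.iff_card.1 hN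
    rw [hk]
    exact fun h => hqp ((Nat.prime_dvd_prime_iff_eq hp hq).1 (hp.dvd_of_dvd_pow h)).symm
  obtain ⟨u, hu⟩ := hA.nonempty_fixed_point_of_prime_not_dvd_card N hnd
  refine ⟨u, u.2, fun a ha => ?_⟩
  have h : a * (u : G) * a⁻¹ * (a * w * a⁻¹ * w⁻¹) = u := congrArg Subtype.val (hu ⟨a, ha⟩)
  show a * ((u : G) * w) = (u : G) * w * a
  calc a * ((u : G) * w) = a * (u : G) * a⁻¹ * (a * w * a⁻¹ * w⁻¹) * w * a := by group
    _ = _ := by rw [h]

variable {y : G} {Q : Subgroup G}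

theorem isPGroup_zpowers_of_ord [Fact p.Prime] (hy : orderOf y = p) : IsPGroup p (zpowers y) :=
  IsPGroup.of_card (n := 1) (by rw [Nat.card_zpowers, hy, pow_one])

/-- Every element of `Q` is a moved element times a fixed one. -/
theorem exists_mvd_mul_fixed [Fact p.Prime] [Fact q.Prime] (hqp : q ≠ p) (hy : orderOf y = p)
    (hQ : IsPGroup q Q) (hyQ : y ∈ normalizer (Q : Set G)) {w : G} (hw : w ∈ Q) :
    ∃ r ∈ mvd y Q, ∃ c ∈ Q, Commute c y ∧ w = r * c := by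
  have hR : IsPGroup q (mvd y Q) := hQ.to_le (mvd_le hyQ)
  obtain ⟨u, hu, hc⟩ := exists_fixed_coset (p := p) (q := q) Fact.out Fact.out hqp
    (isPGroup_zpowers_of_ord hy) hR (zpowers_le.2 (mem_normalizer_mvd hyQ)) (w := w) fun a ha => by
      have := inv_mem (cm_zpowers_mem hyQ ha hw)
      rwa [show (w * a * w⁻¹ * a⁻¹)⁻¹ = a * w * a⁻¹ * w⁻¹ by group] at this
  exact ⟨u⁻¹, inv_mem hu, u * w, mul_mem (mvd_le hyQ hu) hw, (hc y (mem_zpowers y)).symm,
    by group⟩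

theorem mvd_mvd [Fact p.Prime] [Fact q.Prime] (hqp : q ≠ p) (hy : orderOf y = p)
    (hQ : IsPGroup q Q) (hyQ : y ∈ normalizer (Q : Set G)) : mvd y (mvd y Q) = mvd y Q := by
  refine le_antisymm (mvd_le (mem_normalizer_mvd hyQ)) ((closure_le _).2 ?_)
  rintro _ ⟨w, hw, rfl⟩
  obtain ⟨r, hr, c, -, hc, rfl⟩ := exists_mvd_mul_fixed hqp hy hQ hyQ hw
  rw [show r * c * y * (r * c)⁻¹ * y⁻¹ = r * (c * y * c⁻¹) * r⁻¹ * y⁻¹ by group,
    hc.eq, mul_inv_cancel_right]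
  exact cm_mem_mvd hr

/-- A subgroup of fixed points in a coprime group is the trivial part. -/
theorem mvd_ne_bot {w : G} (hw : w ∈ Q) (h : ¬ Commute w y) : mvd y Q ≠ ⊥ :=
  fun e => h (mvd_eq_bot_iff.1 e w hw)

theorem exists_moved (h : mvd y Q ≠ ⊥) : ∃ w ∈ Q, ¬ Commute w y := by
  by_contra hc
  push Not at hc
  exact h (mvd_eq_bot_iff.2 hc)

end Coset

section Core

variable [Finite G] {q r : ℕ} {H : Subgroup G}

theorem coreIn_le : coreIn q H ≤ H := map_subtype_le _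

theorem coreIn_isPGroup : IsPGroup q (coreIn q H) := Grp.pCore_isPGroup.map _

theorem le_normalizer_coreIn : H ≤ normalizer (coreIn q H : Set G) := by
  intro h hh
  rw [mem_normalizer_iff_map_conj_eq]
  refine eq_of_le_of_card_ge ?_ (card_map_of_injective (MulAut.conj h).injective).ge
  rintro _ ⟨_, ⟨z, hz, rfl⟩, rfl⟩
  exact ⟨⟨h, hh⟩ * z * ⟨h, hh⟩⁻¹, (Grp.pCore_isNormal (p := q)).conj_mem z hz ⟨h, hh⟩, rfl⟩

theorem le_coreIn {X : Subgroup G} (hX : X ≤ H) (hn : H ≤ normalizer (X : Set G))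
    (hp : IsPGroup q X) : X ≤ coreIn q H := by
  haveI : (X.subgroupOf H).Normal := normal_subgroupOf_of_le_normalizer hn
  intro z hz
  exact ⟨⟨z, hX hz⟩, Grp.le_pCore ‹_› hp.comap_subtype (mem_subgroupOf.2 hz), rfl⟩

theorem disjoint_of_pgroups (hq : q.Prime) (hr : r.Prime) (hqr : q ≠ r) {A B : Subgroup G}
    (hA : IsPGroup q A) (hB : IsPGroup r B) : A ⊓ B = ⊥ := by
  haveI := Fact.mk hq
  haveI := Fact.mk hr
  exact disjoint_iff.1 (IsPGroup.disjoint_of_ne q r hqr A B hA hB)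

/-- Mutually normalising groups of coprime prime power order commute. -/
theorem commute_of_normalize (hq : q.Prime) (hr : r.Prime) (hqr : q ≠ r) {A B : Subgroup G}
    (hA : IsPGroup q A) (hB : IsPGroup r B) (hAB : A ≤ normalizer (B : Set G))
    (hBA : B ≤ normalizer (A : Set G)) {a b : G} (ha : a ∈ A) (hb : b ∈ B) : Commute a b := by
  have h : a * b * a⁻¹ * b⁻¹ ∈ A ⊓ B := by
    refine ⟨?_, B.mul_mem (mem_normalizer_conj (hAB ha) hb) (B.inv_mem hb)⟩
    rw [show a * b * a⁻¹ * b⁻¹ = a * (b * a⁻¹ * b⁻¹) by group]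
    exact mul_mem ha (mem_normalizer_conj (hBA hb) (inv_mem ha))
  rw [disjoint_of_pgroups hq hr hqr hA hB, mem_bot] at h
  exact mul_inv_eq_iff_eq_mul.1 (mul_inv_eq_one.1 h)

theorem commute_coreIn (hq : q.Prime) (hr : r.Prime) (hqr : q ≠ r) {a b : G}
    (ha : a ∈ coreIn q H) (hb : b ∈ coreIn r H) : Commute a b :=
  commute_of_normalize hq hr hqr coreIn_isPGroup coreIn_isPGroup
    (coreIn_le.trans le_normalizer_coreIn) (coreIn_le.trans le_normalizer_coreIn) ha hb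

variable {p : ℕ} [hp : Fact p.Prime] {y : G} {Q : Subgroup G}

/-- Inside a proper subgroup the moved part of an invariant q-group lies in the q-core. -/
theorem mvd_le_coreIn (hy : Hyp p y) (hH : H ≠ ⊤) (hyH : y ∈ H) (hq : q.Prime) (hqp : q ≠ p)
    (hQ : IsPGroup q Q) (hQH : Q ≤ H) (hyQ : y ∈ normalizer (Q : Set G)) :
    mvd y Q ≤ coreIn q H := by
  haveI := Fact.mk hq
  haveI : (Cfsg.fittingSubgroup H).Normal := Grp.fittingSubgroup_isNormal
  rw [mvd, closure_le]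
  rintro _ ⟨w, hw, rfl⟩
  set f := QuotientGroup.mk' (Cfsg.fittingSubgroup H)
  set yH : H := ⟨y, hyH⟩
  set wH : H := ⟨w, hQH hw⟩
  have hpy : IsPGroup p (zpowers yH) := isPGroup_zpowers_of_ord (by
    rw [← Subgroup.orderOf_coe]; exact hy.ord)
  have h1 : f yH ∈ Cfsg.pCore p (H ⧸ Cfsg.fittingSubgroup H) :=
    Grp.mem_pCore_of_mem_fitting (hy.mem H hH hyH) (by
      rw [← MonoidHom.map_zpowers]; exact hpy.map f)
  have hQ' : IsPGroup q ((Q.subgroupOf H).map f) := (hQ.comap_subtype).map f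
  have hyQ' : f yH ∈ normalizer ((Q.subgroupOf H).map f : Set (H ⧸ Cfsg.fittingSubgroup H)) := by
    refine le_normalizer_map f ⟨yH, mem_normalizer_iff.2 fun z => ?_, rfl⟩
    simp only [mem_subgroupOf, Subgroup.coe_mul, Subgroup.coe_inv]
    exact mem_normalizer_iff.1 hyQ _
  have hfw : f wH ∈ (Q.subgroupOf H).map f := ⟨wH, mem_subgroupOf.2 hw, rfl⟩
  set k : H := wH * yH * wH⁻¹ * yH⁻¹
  have hk : f k ∈ (Q.subgroupOf H).map f ⊓ Cfsg.pCore p (H ⧸ Cfsg.fittingSubgroup H) := by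
    refine ⟨?_, ?_⟩
    · rw [show f k = f wH * (f yH * (f wH)⁻¹ * (f yH)⁻¹) by simp [k, mul_assoc]]
      exact mul_mem hfw (mem_normalizer_conj hyQ' (inv_mem hfw))
    · rw [show f k = f wH * f yH * (f wH)⁻¹ * (f yH)⁻¹ by simp [k, mul_assoc]]
      exact Subgroup.mul_mem _ (Grp.pCore_isNormal.conj_mem _ h1 _) (Subgroup.inv_mem _ h1)
  rw [disjoint_of_pgroups hq hp.out hqp hQ' Grp.pCore_isPGroup, mem_bot] at hk
  refine ⟨k, Grp.mem_pCore_of_mem_fitting ((QuotientGroup.eq_one_iff k).1 hk) ?_, rfl⟩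
  refine (hQ.comap_subtype (K := H)).to_le (zpowers_le.2 (mem_subgroupOf.2 ?_))
  exact (mvd_le hyQ) (cm_mem_mvd hw)

/-- The sharpened form. -/
theorem mvd_le_mvd_coreIn (hy : Hyp p y) (hH : H ≠ ⊤) (hyH : y ∈ H) (hq : q.Prime) (hqp : q ≠ p)
    (hQ : IsPGroup q Q) (hQH : Q ≤ H) (hyQ : y ∈ normalizer (Q : Set G)) :
    mvd y Q ≤ mvd y (coreIn q H) := by
  haveI := Fact.mk hq
  rw [← mvd_mvd hqp hy.ord hQ hyQ]
  exact mvd_mono (mvd_le_coreIn hy hH hyH hq hqp hQ hQH hyQ)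

/-- The conjugate `w y w⁻¹` is reached from `y` inside the group they generate. -/
theorem exists_conj_in_pair (hy : Hyp p y) (hq : q.Prime) (hqp : q ≠ p) (hQ : IsPGroup q Q)
    (hyQ : y ∈ normalizer (Q : Set G)) {w : G} (hw : w ∈ Q) :
    ∃ v ∈ Q, v ∈ closure ({y, w * y * w⁻¹} : Set G) ∧ w * y * w⁻¹ = v * y * v⁻¹ := by
  haveI := Fact.mk hq
  set K := closure ({y, w * y * w⁻¹} : Set G)
  set Q0 := Q ⊓ K
  have hyK : y ∈ K := Subgroup.subset_closure (by simp)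
  have hyQ0 : y ∈ normalizer (Q0 : Set G) := mem_normalizer_iff.2 fun z => by
    simp only [Q0, mem_inf]
    exact and_congr (mem_normalizer_iff.1 hyQ z)
      ⟨fun h => mul_mem (mul_mem hyK h) (inv_mem hyK), fun h => by
        have := mul_mem (mul_mem (inv_mem hyK) h) hyK
        rwa [show y⁻¹ * (y * z * y⁻¹) * y = z by group] at this⟩
  have hk0 : y * w * y⁻¹ * w⁻¹ ∈ Q0 := by
    refine ⟨Q.mul_mem (mem_normalizer_conj hyQ hw) (Q.inv_mem hw), ?_⟩
    have h : w * y * w⁻¹ * y⁻¹ ∈ K := mul_mem (Subgroup.subset_closure (by simp)) (inv_mem hyK)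
    rw [show y * w * y⁻¹ * w⁻¹ = (w * y * w⁻¹ * y⁻¹)⁻¹ by group]
    exact K.inv_mem h
  obtain ⟨u, hu, hc⟩ := exists_fixed_coset (p := p) hp.out hq hqp (isPGroup_zpowers_of_ord hy.ord)
    (hQ.to_le inf_le_left : IsPGroup q Q0) (zpowers_le.2 hyQ0) (w := w) (by
      intro a ha
      obtain ⟨i, rfl⟩ := mem_powers_iff_mem_zpowers.2 ha
      induction i with
      | zero => simp
      | succ i ih =>
        have := ih (pow_mem (mem_zpowers y) i)
        rw [show y ^ (i + 1) * w * (y ^ (i + 1))⁻¹ * w⁻¹ =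
          (y * (y ^ i * w * (y ^ i)⁻¹ * w⁻¹) * y⁻¹) * (y * w * y⁻¹ * w⁻¹) by
          rw [pow_succ' y i]; group]
        exact mul_mem (mem_normalizer_conj hyQ0 this) hk0)
  refine ⟨u⁻¹, Q.inv_mem hu.1, K.inv_mem hu.2, ?_⟩
  have h := (hc y (mem_zpowers y)).eq
  calc w * y * w⁻¹ = u⁻¹ * (u * w * y) * (u * w)⁻¹ * u := by group
    _ = u⁻¹ * (y * (u * w)) * (u * w)⁻¹ * u := by rw [h]
    _ = _ := by group

/-- A commutator seen in a proper subgroup lies in the moved part of its q-core. -/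
theorem cm_mem_of_pair (hy : Hyp p y) (hq : q.Prime) (hqp : q ≠ p) (hQ : IsPGroup q Q)
    (hyQ : y ∈ normalizer (Q : Set G)) {w : G} (hw : w ∈ Q) (hH : H ≠ ⊤) (hyH : y ∈ H)
    (hwH : w * y * w⁻¹ ∈ H) : w * y * w⁻¹ * y⁻¹ ∈ mvd y (coreIn q H) := by
  obtain ⟨v, hv, hvK, e⟩ := exists_conj_in_pair hy hq hqp hQ hyQ hw
  have hKH : closure ({y, w * y * w⁻¹} : Set G) ≤ H := by
    rw [closure_le]; rintro z (rfl | rfl) <;> assumption
  rw [e]
  refine mvd_le_mvd_coreIn hy hH hyH hq hqp (hQ.to_le (inf_le_left : Q ⊓ H ≤ Q)) inf_le_right ?_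
    (cm_mem_mvd (show v ∈ Q ⊓ H from ⟨hv, hKH hvK⟩))
  refine mem_normalizer_iff.2 fun z => ?_
  simp only [mem_inf]
  exact and_congr (mem_normalizer_iff.1 hyQ z) (mem_normalizer_iff.1 (le_normalizer hyH) z)

/-- If `g` moves `y` to a conjugate of a power of `y`, the subgroup they generate contains that conjugate. -/
theorem conj_mem_of_conj_zpowers {v m : G} {H : Subgroup G} (hm : m * y * m⁻¹ ∈ zpowers y)
    (hyH : y ∈ H) (hvm : v * m ∈ H) : v * y * v⁻¹ ∈ H := by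
  have h1 : (v * m) * y * (v * m)⁻¹ ∈ H := mul_mem (mul_mem hvm hyH) (inv_mem hvm)
  have heq : zpowers (m * y * m⁻¹) = zpowers y := by
    refine eq_of_le_of_card_ge (zpowers_le.2 hm) ?_
    rw [Nat.card_zpowers, Nat.card_zpowers,
      show m * y * m⁻¹ = MulAut.conj m y from rfl, MulEquiv.orderOf_eq]
  obtain ⟨i, hi⟩ := mem_zpowers_iff.1 (heq.ge (mem_zpowers y))
  have h2 := zpow_mem h1 i
  rwa [show (v * m) * y * (v * m)⁻¹ = v * (m * y * m⁻¹) * v⁻¹ by group, conj_zpow, hi] at h2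

/-- The slot lemma. -/
theorem slot (hy : Hyp p y) (hq : q.Prime) (hqp : q ≠ p) (hQ : IsPGroup q Q)
    (hyQ : y ∈ normalizer (Q : Set G)) {w : G} (hw : w ∈ Q) {m : G}
    (hm : m * y * m⁻¹ ∈ zpowers y) :
    ∃ H : Subgroup G, H ≠ ⊤ ∧ y ∈ H ∧ m ∈ H ∧ w * y * w⁻¹ * y⁻¹ ∈ mvd y (coreIn q H) ∧
      closure ({y, w * y * w⁻¹} : Set G) ≤ H := by
  obtain ⟨v, -, hvK, e⟩ := exists_conj_in_pair hy hq hqp hQ hyQ hw
  set H := closure ({y, v * m} : Set G)
  have hyH : y ∈ H := Subgroup.subset_closure (by simp)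
  have hvm : v * m ∈ H := Subgroup.subset_closure (by simp)
  have hwH : w * y * w⁻¹ ∈ H := e ▸ conj_mem_of_conj_zpowers hm hyH hvm
  have hKH : closure ({y, w * y * w⁻¹} : Set G) ≤ H := by
    rw [closure_le]; rintro z (rfl | rfl) <;> assumption
  have hmH : m ∈ H := by
    have := H.mul_mem (H.inv_mem (hKH hvK)) hvm
    rwa [inv_mul_cancel_left] at this
  exact ⟨H, hy.pair _, hyH, hmH, cm_mem_of_pair hy hq hqp hQ hyQ hw (hy.pair _) hyH hwH, hKH⟩

end Core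

end Cfsg.Agent.Fus.F2Pairs
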