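import Cfsg.Agent.Lib.Fus.F2Pairs.Join
import Cfsg.Agent.Lib.Grp.CoprimeAbelian
import Cfsg.Agent.Lib.Grp.TwoGen.Basic

/-!
An element with a commuting conjugate outside the group it generates: its moved q-parts form a
q-group, and those for different primes commute.
-/

set_option autoImplicit false
set_option linter.style.haveILetI false
set_option linter.unusedSectionVars false

namespace Cfsg.Agent.Fus.F2Pairs

open Subgroup
open scoped Pointwise

universe u

variable {G : Type u} [Group G] [Finite G] {p q r : ℕ} [hp : Fact p.Prime] {x y u : G}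

theorem zpowers_eq_of_mem {a b : G} (ha : orderOf a = p) (hb : orderOf b = p) (h : a ∈ zpowers b) :
    zpowers a = zpowers b :=
  eq_of_le_of_card_ge (zpowers_le.2 h) (by rw [Nat.card_zpowers, Nat.card_zpowers, ha, hb])

theorem mem_zpowers_symm {a b : G} (ha : a ≠ 1) (hb : orderOf b = p) (h : a ∈ zpowers b) :
    b ∈ zpowers a := by
  have hd : orderOf a ∣ p := hb ▸ orderOf_dvd_of_mem_zpowers h
  rcases (Nat.dvd_prime hp.out).1 hd with h1 | h1
  · exact absurd (orderOf_eq_one_iff.1 h1) ha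
  · exact (zpowers_eq_of_mem h1 hb h).ge (mem_zpowers b)

/-- The facts about the rank two group generated by commuting elements of order p. -/
structure Plane (p : ℕ) (y u : G) : Prop where
  ord : orderOf y = p
  ord' : orderOf u = p
  comm : Commute y u
  out : u ∉ zpowers y

namespace Plane

variable (P : Plane p y u)
include P

theorem commute_mem {a : G} (ha : a ∈ closure ({y, u} : Set G)) : Commute a y ∧ Commute a u := by
  induction ha using closure_induction with
  | mem z hz =>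
    rcases hz with rfl | rfl
    · exact ⟨Commute.refl z, P.comm⟩
    · exact ⟨P.comm.symm, Commute.refl z⟩
  | one => exact ⟨Commute.one_left y, Commute.one_left u⟩
  | mul a b _ _ iha ihb => exact ⟨iha.1.mul_left ihb.1, iha.2.mul_left ihb.2⟩
  | inv a _ iha => exact ⟨iha.1.inv_left, iha.2.inv_left⟩

theorem comm_all : IsMulCommutative (closure ({y, u} : Set G)) := by
  refine ⟨⟨fun a b => Subtype.ext ?_⟩⟩
  have hle : closure ({y, u} : Set G) ≤ centralizer ({(b : G)} : Set G) := by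
    rw [closure_le]
    rintro z (rfl | rfl) <;> refine mem_centralizer_singleton_iff.2 ?_
    · exact (P.commute_mem b.2).1.symm.eq
    · exact (P.commute_mem b.2).2.symm.eq
  exact mem_centralizer_singleton_iff.1 (hle a.2)

theorem pow_eq_one {a : G} (ha : a ∈ closure ({y, u} : Set G)) : a ^ p = 1 := by
  induction ha using closure_induction with
  | mem z hz =>
    rcases hz with rfl | rfl
    · rw [← P.ord, pow_orderOf_eq_one]
    · rw [← P.ord', pow_orderOf_eq_one]
  | one => exact one_pow _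
  | mul a b ha hb iha ihb =>
    have h : Commute a b := by
      haveI := P.comm_all
      exact setLike_mul_comm ha hb
    rw [h.mul_pow, iha, ihb, one_mul]
  | inv a _ iha => rw [inv_pow, iha, inv_one]

theorem orderOf_mem {a : G} (ha : a ∈ closure ({y, u} : Set G)) (h1 : a ≠ 1) : orderOf a = p :=
  orderOf_eq_prime (P.pow_eq_one ha) h1

theorem isPGroup : IsPGroup p (closure ({y, u} : Set G)) := fun ⟨a, ha⟩ =>
  ⟨1, Subtype.ext (by simpa using P.pow_eq_one ha)⟩

theorem not_cyclic : ¬ IsCyclic (closure ({y, u} : Set G)) := by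
  rintro ⟨⟨g, hg⟩⟩
  have hy : y ∈ zpowers (g : G) := by
    obtain ⟨i, hi⟩ := mem_zpowers_iff.1 (hg ⟨y, Subgroup.subset_closure (by simp)⟩)
    exact mem_zpowers_iff.2 ⟨i, congrArg Subtype.val hi⟩
  have hu : u ∈ zpowers (g : G) := by
    obtain ⟨i, hi⟩ := mem_zpowers_iff.1 (hg ⟨u, Subgroup.subset_closure (by simp)⟩)
    exact mem_zpowers_iff.2 ⟨i, congrArg Subtype.val hi⟩
  have hy1 : y ≠ 1 := fun e => hp.out.ne_one (by rw [← P.ord, e, orderOf_one])
  have hg1 : (g : G) ≠ 1 := fun e => hy1 (by rw [e] at hy; simpa using hy)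
  exact P.out ((zpowers_eq_of_mem P.ord (P.orderOf_mem g.2 hg1) hy).ge hu)

theorem card : Nat.card (closure ({y, u} : Set G)) = p * p := by
  have hd : zpowers y ⊓ zpowers u = ⊥ := (eq_bot_iff_forall _).2 fun z hz => by
    by_contra hz1
    refine P.out ?_
    have h1 : orderOf z = p := P.orderOf_mem ((zpowers_le.2 (Subgroup.subset_closure (by simp))) hz.1) hz1
    exact (zpowers_eq_of_mem h1 P.ord hz.1).le ((zpowers_eq_of_mem h1 P.ord' hz.2).ge (mem_zpowers u))
  have hsup : closure ({y, u} : Set G) = zpowers y ⊔ zpowers u := by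
    rw [zpowers_eq_closure, zpowers_eq_closure, ← Subgroup.closure_union, Set.singleton_union]
  have hn : zpowers u ≤ normalizer (zpowers y : Set G) := zpowers_le.2
    (mem_normalizer_iff_map_conj_eq.2 (by
      rw [MonoidHom.map_zpowers]
      simp [← P.comm.eq]))
  rw [hsup, show Nat.card ↥(zpowers y ⊔ zpowers u) = Nat.card ((zpowers y ⊔ zpowers u : Subgroup G) : Set G) from rfl,
    coe_mul_of_right_le_normalizer_left _ _ hn]
  have hr : Set.range (fun g : zpowers y × zpowers u => (g.1 : G) * g.2) =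
      (zpowers y : Set G) * (zpowers u : Set G) := by
    ext z
    constructor
    · rintro ⟨⟨a, b⟩, rfl⟩
      exact ⟨a, a.2, b, b.2, rfl⟩
    · rintro ⟨a, ha, b, hb, rfl⟩
      exact ⟨(⟨a, ha⟩, ⟨b, hb⟩), rfl⟩
  rw [← hr, Nat.card_range_of_injective (mul_injective_of_disjoint (disjoint_iff.2 hd)), Nat.card_prod,
    Nat.card_zpowers, Nat.card_zpowers, P.ord, P.ord']

theorem closure_eq {a b : G} (ha : a ∈ closure ({y, u} : Set G)) (hb : b ∈ closure ({y, u} : Set G))
    (ha1 : a ≠ 1) (hba : b ∉ zpowers a) : closure ({a, b} : Set G) = closure ({y, u} : Set G) := by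
  haveI := P.comm_all
  have hb1 : b ≠ 1 := fun e => hba (e ▸ one_mem _)
  have P' : Plane p a b :=
    ⟨P.orderOf_mem ha ha1, P.orderOf_mem hb hb1, setLike_mul_comm ha hb, hba⟩
  refine eq_of_le_of_card_ge ?_ (by rw [P.card, P'.card])
  rw [closure_le]; rintro z (rfl | rfl) <;> assumption

end Plane

/-- The moved parts of the cores of the centralisers of the lines other than `⟨y⟩`. -/
def lines (q : ℕ) (y u : G) : Subgroup G :=
  sSup {L | ∃ c ∈ closure ({y, u} : Set G), c ∉ zpowers y ∧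
    L = mvd y (coreIn q (centralizer ({c} : Set G)))}

theorem mem_normalizer_mvd_of_commute {Q : Subgroup G} {g : G} (hg : g ∈ normalizer (Q : Set G))
    (h : Commute g y) : g ∈ normalizer (mvd y Q : Set G) := by
  refine mem_normalizer_of_gen ?_
  rintro _ ⟨w, hw, rfl⟩
  have e : g * (w * y * w⁻¹ * y⁻¹) * g⁻¹ = g * w * g⁻¹ * y * (g * w * g⁻¹)⁻¹ * y⁻¹ := by
    calc g * (w * y * w⁻¹ * y⁻¹) * g⁻¹
        = g * w * g⁻¹ * (g * y * g⁻¹) * (g * w * g⁻¹)⁻¹ * (g * y * g⁻¹)⁻¹ := by group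
      _ = _ := by rw [h.eq, mul_inv_cancel_right]
  rw [e]
  exact cm_mem_mvd (mem_normalizer_conj hg hw)

theorem coprime_card (hq : q.Prime) (hqp : q ≠ p) {A B : Subgroup G} (hA : IsPGroup p A)
    (hB : IsPGroup q B) : (Nat.card A).Coprime (Nat.card B) := by
  haveI := Fact.mk hq
  obtain ⟨a, ha⟩ := IsPGroup.iff_card.1 hA
  obtain ⟨b, hb⟩ := IsPGroup.iff_card.1 hB
  rw [ha, hb]
  exact Nat.Coprime.pow _ _ ((Nat.coprime_primes hp.out hq).2 hqp.symm)

variable (S : Setting p x)
include S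

/-- All moved q-parts are generated along the lines. -/
theorem Setting.wq_le_lines (hy : Hyp p y) (P : Plane p y u) (hq : q.Prime) (hqp : q ≠ p) :
    wq q y ≤ lines q y u := by
  haveI := Fact.mk hq
  rw [wq, closure_le]
  rintro k ⟨Q, hQ, hyQ, w, hw, rfl⟩
  obtain ⟨H, hH, hyH, huH, hk, -⟩ := slot hy hq hqp hQ hyQ hw (m := u) (by
    rw [← P.comm.eq, mul_inv_cancel_right]; exact mem_zpowers y)
  set X := mvd y (coreIn q H) with hX
  have hyC : y ∈ normalizer (coreIn q H : Set G) := le_normalizer_coreIn hyH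
  have hXq : IsPGroup q X := coreIn_isPGroup.to_le (mvd_le hyC)
  have hyX : y ∈ normalizer (X : Set G) := mem_normalizer_mvd hyC
  set V := closure ({y, u} : Set G) with hV
  have hVX : V ≤ normalizer (X : Set G) := (closure_le _).2 (by
    rintro z (rfl | rfl)
    · exact hyX
    · exact mem_normalizer_mvd_of_commute (le_normalizer_coreIn huH) P.comm.symm)
  haveI := P.comm_all
  have hgen := Grp.generated_by_centralizers V X P.not_cyclic hVX (coprime_card hq hqp P.isPGroup hXq)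
  set P0 : Subgroup G := ⨆ a ∈ {a : G | a ∈ V ∧ a ∉ zpowers y}, mvd y (X ⊓ centralizer ({a} : Set G))
  have hyV : y ∈ V := Subgroup.subset_closure (by simp)
  have hyA : ∀ a ∈ V, y ∈ normalizer ((X ⊓ centralizer ({a} : Set G) : Subgroup G) : Set G) :=
    fun a ha => mem_normalizer_inf hyX (le_normalizer
      (mem_centralizer_singleton_iff.2 (P.commute_mem ha).1.symm.eq))
  have hP0L : P0 ≤ lines q y u := by
    refine iSup₂_le fun a ⟨haV, hay⟩ => ?_
    have ha1 : a ≠ 1 := fun e => hay (e ▸ one_mem _)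
    refine le_trans ?_ (le_sSup ⟨a, haV, hay, rfl⟩)
    exact mvd_le_mvd_coreIn hy (S.centralizer_ne_top ha1)
      (mem_centralizer_singleton_iff.2 (P.commute_mem haV).1.symm.eq) hq hqp
      (hXq.to_le inf_le_left) inf_le_right (hyA a haV)
  have hP0X : P0 ≤ X := iSup₂_le fun a ha => (mvd_le (hyA a ha.1)).trans inf_le_left
  refine hP0L ?_
  suffices hXP : X ≤ P0 from hXP hk
  by_contra hne
  haveI := hXq.isNilpotent
  obtain ⟨M, hM, hPM⟩ := (eq_top_or_exists_le_coatom (P0.subgroupOf X)).resolve_left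
    fun e => hne (subgroupOf_eq_top.1 e)
  haveI hMn : M.Normal := NormalizerCondition.normal_of_coatom M Group.normalizerCondition_of_isNilpotent hM
  set N := closure {c | ∃ a ∈ X, ∃ z ∈ P0, c = a * z * a⁻¹} with hN
  have hXN : X ≤ normalizer (N : Set G) := by
    intro b hb
    refine mem_normalizer_of_gen ?_
    rintro _ ⟨a, ha, z, hz, rfl⟩
    exact Subgroup.subset_closure ⟨b * a, mul_mem hb ha, z, hz, by group⟩
  have hP0N : P0 ≤ N := fun z hz => Subgroup.subset_closure ⟨1, one_mem _, z, hz, by group⟩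
  have hNX : N ≤ M.map X.subtype := by
    rw [hN, closure_le]
    rintro _ ⟨a, ha, z, hz, rfl⟩
    exact ⟨⟨a, ha⟩ * ⟨z, hP0X hz⟩ * ⟨a, ha⟩⁻¹,
      hMn.conj_mem _ (hPM (mem_subgroupOf.2 hz)) ⟨a, ha⟩, rfl⟩
  let good : Subgroup G :=
    { carrier := {w | w ∈ X ∧ w * y * w⁻¹ * y⁻¹ ∈ N}
      one_mem' := ⟨one_mem _, by simp⟩
      mul_mem' := fun {a b} ha hb => ⟨mul_mem ha.1 hb.1, by
        rw [show a * b * y * (a * b)⁻¹ * y⁻¹ =
          a * (b * y * b⁻¹ * y⁻¹) * a⁻¹ * (a * y * a⁻¹ * y⁻¹) by group]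
        exact mul_mem (mem_normalizer_conj (hXN ha.1) hb.2) ha.2⟩
      inv_mem' := fun {a} ha => ⟨inv_mem ha.1, by
        rw [show a⁻¹ * y * a⁻¹⁻¹ * y⁻¹ = a⁻¹ * (a * y * a⁻¹ * y⁻¹)⁻¹ * a⁻¹⁻¹ by group]
        exact mem_normalizer_conj (hXN (inv_mem ha.1)) (inv_mem ha.2)⟩ }
  have hXg : X ≤ good := by
    refine hgen.ge.trans (iSup₂_le fun a ⟨haV, ha1⟩ => fun w hw => ⟨hw.1, ?_⟩)
    by_cases hay : a ∈ zpowers y
    · have hyy : y ∈ zpowers a := mem_zpowers_symm ha1 P.ord hay
      have hle : zpowers a ≤ centralizer ({w} : Set G) := zpowers_le.2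
        (mem_centralizer_singleton_iff.2 (mem_centralizer_singleton_iff.1 hw.2).symm)
      rw [cm_eq_one (mem_centralizer_singleton_iff.1 (hle hyy)).symm]
      exact one_mem _
    · exact hP0N ((le_iSup₂_of_le (f := fun a (_ : a ∈ {a : G | a ∈ V ∧ a ∉ zpowers y}) =>
        mvd y (X ⊓ centralizer ({a} : Set G))) a ⟨haV, hay⟩ le_rfl) (cm_mem_mvd hw))
  have hXN' : X ≤ N := by
    conv_lhs => rw [hX, ← mvd_mvd hqp hy.ord coreIn_isPGroup hyC]
    rw [mvd, closure_le]
    rintro _ ⟨w, hw, rfl⟩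
    exact (hXg hw).2
  refine hM.1 (eq_top_iff.2 fun z _ => ?_)
  obtain ⟨z', hz', e⟩ := hNX (hXN' z.2)
  rwa [← X.subtype_injective e]

theorem Setting.lines_le_wq {a : G} (ha : a ∈ centralizer ({y} : Set G)) :
    mvd y (coreIn q (centralizer ({a} : Set G))) ≤ wq q y :=
  mvd_le_wq coreIn_isPGroup (le_normalizer_coreIn (mem_centralizer_singleton_iff.2
    (mem_centralizer_singleton_iff.1 ha).symm))

theorem Setting.wq_eq_lines (hy : Hyp p y) (P : Plane p y u) (hq : q.Prime) (hqp : q ≠ p) :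
    wq q y = lines q y u := by
  refine le_antisymm (S.wq_le_lines hy P hq hqp) (sSup_le ?_)
  rintro _ ⟨c, hc, -, rfl⟩
  exact S.lines_le_wq (mem_centralizer_singleton_iff.2 (P.commute_mem hc).1.eq)

/-- The pair lemma on two lines generating `y`. -/
theorem Setting.two (hy : Hyp p y) (P : Plane p y u) (hz : ∀ g : G, Hyp p (g * y * g⁻¹)) (hq : q.Prime)
    (hqp : q ≠ p) (hr : r.Prime) (hrp : r ≠ p) {c c' : G} (hc : c ∈ closure ({y, u} : Set G))
    (hc1 : c ≠ 1) (hc' : c' ∈ closure ({y, u} : Set G)) (hc'y : c' ∉ zpowers y)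
    (hyc : y ∈ closure ({c, c'} : Set G)) {w w' : G}
    (hw : w ∈ coreIn q (centralizer ({c} : Set G))) (hw' : w' ∈ coreIn r (centralizer ({c'} : Set G))) :
    ∃ H : Subgroup G, H ≠ ⊤ ∧ y ∈ H ∧ c' ∈ H ∧ w * y * w⁻¹ * y⁻¹ ∈ mvd y (coreIn q H) ∧
      w' * y * w'⁻¹ * y⁻¹ ∈ mvd y (coreIn r H) := by
  haveI := Fact.mk hq
  haveI := Fact.mk hr
  haveI := P.comm_all
  have hcc' : Commute c c' := setLike_mul_comm hc hc'
  set Q := coreIn q (centralizer ({c} : Set G))
  set R := coreIn r (centralizer ({c'} : Set G))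
  have hyCc : y ∈ centralizer ({c} : Set G) :=
    mem_centralizer_singleton_iff.2 (P.commute_mem hc).1.symm.eq
  have hyCc' : y ∈ centralizer ({c'} : Set G) :=
    mem_centralizer_singleton_iff.2 (P.commute_mem hc').1.symm.eq
  have hyQ : y ∈ normalizer (Q : Set G) := le_normalizer_coreIn hyCc
  have hyR : y ∈ normalizer (R : Set G) := le_normalizer_coreIn hyCc'
  set b := w' * y * w'⁻¹ * y⁻¹ with hb
  have hbR : b ∈ R := mvd_le hyR (cm_mem_mvd hw')
  have hbc : Commute c' b := (mem_centralizer_singleton_iff.1 (coreIn_le hbR)).symm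
  have hord : orderOf c' = p := P.orderOf_mem hc' fun e => hc'y (e ▸ one_mem _)
  have hcop : (orderOf c').Coprime (orderOf b) := by
    have h := coprime_card (p := p) hr hrp (isPGroup_zpowers_of_ord hord) (coreIn_isPGroup : IsPGroup r R)
    rw [Nat.card_zpowers] at h
    exact h.coprime_dvd_right (orderOf_dvd_natCard R hbR)
  set H := closure ({w * y * w⁻¹, c' * b} : Set G) with hH
  have hHtop : H ≠ ⊤ := (hz w).pair _
  have hcb : c' * b ∈ H := Subgroup.subset_closure (by simp)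
  have hc'H : c' ∈ H := zpowers_le.2 hcb (Grp.TwoGen.left_mem_zpowers_mul hbc hcop)
  have hbH : b ∈ H := by
    have := H.mul_mem (H.inv_mem hc'H) hcb
    rwa [inv_mul_cancel_left] at this
  -- `y` lies in `H`
  set K := closure ({w * y * w⁻¹, c'} : Set G)
  have hKH : K ≤ H := by
    rw [closure_le]
    rintro z (rfl | rfl)
    · exact Subgroup.subset_closure (by simp)
    · exact hc'H
  set V := closure ({y, u} : Set G)
  have hVC : V ≤ centralizer ({c} : Set G) := fun a ha =>
    mem_centralizer_singleton_iff.2 (show Commute a c from setLike_mul_comm ha hc).eq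
  have hVQ : V ≤ normalizer (Q : Set G) := hVC.trans le_normalizer_coreIn
  have hyV : y ∈ V := Subgroup.subset_closure (by simp)
  have hKVQ : K ≤ V ⊔ Q := by
    rw [closure_le]
    rintro z (rfl | rfl)
    · exact mul_mem (mul_mem (mem_sup_right hw) (mem_sup_left hyV)) (inv_mem (mem_sup_right hw))
    · exact mem_sup_left hc'
  have hc'K : c' ∈ K := Subgroup.subset_closure (by simp)
  have hpc : IsPGroup p (zpowers (⟨c', hc'K⟩ : K)) := isPGroup_zpowers_of_ord (by
    rw [← Subgroup.orderOf_coe]; exact hord)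
  obtain ⟨T, hT⟩ := hpc.exists_le_sylow
  have hx' : IsPGroup p (zpowers (⟨w * y * w⁻¹, Subgroup.subset_closure (by simp)⟩ : K)) :=
    isPGroup_zpowers_of_ord (by rw [← Subgroup.orderOf_coe]; exact (hz w).ord)
  obtain ⟨T', hT'⟩ := hx'.exists_le_sylow
  obtain ⟨s, hs⟩ := MulAction.exists_smul_eq K T' T
  set t : G := (s : G) * (w * y * w⁻¹) * (s : G)⁻¹ with ht
  have htT : (⟨t, K.mul_mem (K.mul_mem s.2 (Subgroup.subset_closure (by simp))) (K.inv_mem s.2)⟩ : K) ∈
      (T : Subgroup K) := by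
    rw [← hs, Sylow.coe_subgroup_smul]
    exact ⟨_, hT' (mem_zpowers _), rfl⟩
  have hs' := hKVQ s.2
  rw [← SetLike.mem_coe, coe_mul_of_left_le_normalizer_right V Q hVQ] at hs'
  obtain ⟨v, hv, q0, hq0, hsv⟩ := Set.mem_mul.1 hs'
  set w1 := v * q0 * w * v⁻¹ with hw1
  have hw1Q : w1 ∈ Q := by
    rw [hw1, show v * q0 * w * v⁻¹ = v * (q0 * w) * v⁻¹ by group]
    exact mem_normalizer_conj (hVQ hv) (mul_mem hq0 hw)
  have htw : t = w1 * y * w1⁻¹ := by
    calc t = v * q0 * w * y * (v * q0 * w)⁻¹ := by rw [ht, ← hsv]; group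
      _ = w1 * (v * y * v⁻¹) * w1⁻¹ := by rw [hw1]; group
      _ = w1 * y * w1⁻¹ := by rw [(P.commute_mem hv).1.eq, mul_inv_cancel_right]
  have hyc' : Commute y c' := (P.commute_mem hc').1.symm
  have htc : Commute t c' := by
    have h1 : t * c' * t⁻¹ * c'⁻¹ ∈ Q := by
      have e : t * c' * t⁻¹ * c'⁻¹ = w1 * (y * w1⁻¹ * y⁻¹) * ((y * c') * w1 * (y * c')⁻¹) *
          (c' * w1⁻¹ * c'⁻¹) := by
        calc t * c' * t⁻¹ * c'⁻¹
            = w1 * (y * w1⁻¹ * y⁻¹) * ((y * c') * w1 * (y * c')⁻¹) *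
                ((y * c') * (y⁻¹ * w1⁻¹) * c'⁻¹) := by rw [htw]; group
          _ = _ := by rw [hyc'.eq]; group
      rw [e]
      exact mul_mem (mul_mem (mul_mem hw1Q (mem_normalizer_conj hyQ (inv_mem hw1Q)))
        (mem_normalizer_conj (hVQ (mul_mem hyV hc')) hw1Q))
        (mem_normalizer_conj (hVQ hc') (inv_mem hw1Q))
    have h2 : t * c' * t⁻¹ * c'⁻¹ ∈ (T : Subgroup K).map K.subtype := by
      have := mul_mem (mul_mem (mul_mem htT (hT (mem_zpowers _))) (inv_mem htT))
        (inv_mem (hT (mem_zpowers _)))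
      exact ⟨_, this, rfl⟩
    have h3 := (disjoint_of_pgroups hq hp.out hqp coreIn_isPGroup (T.isPGroup'.map K.subtype)).le
      ⟨h1, h2⟩
    exact commute_of_cm (mem_bot.1 h3)
  have hw1c : Commute (w1⁻¹ * c' * w1) y := by
    have h := Commute.map htc (MulAut.conj w1⁻¹).toMonoidHom
    rw [htw] at h
    simpa [mul_assoc] using h.symm
  obtain ⟨n, hn, hnc⟩ := exists_fixed_coset (p := p) hp.out hq hqp (isPGroup_zpowers_of_ord hord)
    (coreIn_isPGroup.to_le inf_le_left : IsPGroup q (Q ⊓ centralizer ({y} : Set G) : Subgroup G))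
    (zpowers_le.2 (mem_normalizer_inf (hVQ hc') (le_normalizer
      (mem_centralizer_singleton_iff.2 hyc'.symm.eq)))) (w := w1⁻¹) (by
      intro a ha
      have hac : a ∈ V := zpowers_le.2 hc' ha
      refine ⟨Q.mul_mem (mem_normalizer_conj (hVQ hac) (Q.inv_mem hw1Q)) (Q.inv_mem (Q.inv_mem hw1Q)), ?_⟩
      refine mem_centralizer_singleton_iff.2 (Commute.eq ?_)
      obtain ⟨i, rfl⟩ := mem_zpowers_iff.1 ha
      have h1 : Commute (w1⁻¹ * (c' ^ i)⁻¹ * w1⁻¹⁻¹) y := by
        rw [← zpow_neg, ← conj_zpow, inv_inv]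
        exact hw1c.zpow_left _
      rw [show c' ^ i * w1⁻¹ * (c' ^ i)⁻¹ * w1⁻¹⁻¹ = c' ^ i * (w1⁻¹ * (c' ^ i)⁻¹ * w1⁻¹⁻¹) by group]
      exact (P.commute_mem hac).1.mul_left h1)
  have hnw : Commute (n * w1⁻¹) y := by
    have hle : closure ({c, c'} : Set G) ≤ centralizer ({n * w1⁻¹} : Set G) := by
      rw [closure_le]
      rintro z (rfl | rfl) <;> refine mem_centralizer_singleton_iff.2 ?_
      · exact (mem_centralizer_singleton_iff.1 (coreIn_le (Q.mul_mem hn.1 (Q.inv_mem hw1Q)))).symm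
      · exact (hnc z (mem_zpowers z)).eq
    exact (mem_centralizer_singleton_iff.1 (hle hyc)).symm
  have hw1y : Commute w1 y := by
    have h1 : Commute n y := mem_centralizer_singleton_iff.1 hn.2
    have h2 : Commute w1⁻¹ y := by
      rw [show w1⁻¹ = n⁻¹ * (n * w1⁻¹) by group]
      exact h1.inv_left.mul_left hnw
    simpa using h2.inv_left
  have hty : t = y := by rw [htw, hw1y.eq, mul_inv_cancel_right]
  have hyH : y ∈ H := by
    rw [← hty, ht]
    exact H.mul_mem (H.mul_mem (hKH s.2) (Subgroup.subset_closure (by simp))) (H.inv_mem (hKH s.2))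
  refine ⟨H, hHtop, hyH, hc'H, cm_mem_of_pair hy hq hqp coreIn_isPGroup hyQ hw hHtop hyH
    (Subgroup.subset_closure (by simp)), cm_mem_of_pair hy hr hrp coreIn_isPGroup hyR hw' hHtop hyH ?_⟩
  rw [show w' * y * w'⁻¹ = b * y by rw [hb]; group]
  exact H.mul_mem hbH hyH

theorem Setting.lines_pair (_hy : Hyp p y) (P : Plane p y u) {c c' : G}
    (hc : c ∈ closure ({y, u} : Set G)) (hcy : c ∉ zpowers y) (hc' : c' ∈ closure ({y, u} : Set G))
    (hc'y : c' ∉ zpowers y) :
    y ∈ closure ({c, c'} : Set G) ∨ centralizer ({c} : Set G) = centralizer ({c'} : Set G) := by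
  haveI := P.comm_all
  have hc1 : orderOf c = p := P.orderOf_mem hc fun e => hcy (e ▸ one_mem _)
  have hc'1 : orderOf c' = p := P.orderOf_mem hc' fun e => hc'y (e ▸ one_mem _)
  by_cases hz : c' ∈ zpowers c
  · right
    rw [← centralizer_closure {c}, ← zpowers_eq_closure, ← centralizer_closure {c'},
      ← zpowers_eq_closure, zpowers_eq_of_mem hc'1 hc1 hz]
  left
  exact (P.closure_eq hc hc' (fun e => hcy (e ▸ one_mem _)) hz).ge (Subgroup.subset_closure (by simp))

/-- Case I: moved q-parts form a q-group. -/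
theorem Setting.caseOne_group (hy : Hyp p y) (hyc : ∀ g : G, Hyp p (g * y * g⁻¹)) (hu : Hyp p u)
    (P : Plane p y u) (hq : q.Prime) (hqp : q ≠ p) : IsPGroup q (wq q y) := by
  haveI := Fact.mk hq
  haveI := P.comm_all
  rw [S.wq_eq_lines hy P hq hqp]
  refine S.join hqp P.isPGroup (E := {y, u}) rfl (by rintro e (rfl | rfl) <;> assumption) _ ?_ ?_ ?_
  · rintro _ ⟨c, hc, -, rfl⟩
    have hVC : closure ({y, u} : Set G) ≤ centralizer ({c} : Set G) := fun a ha =>
      mem_centralizer_singleton_iff.2 (show Commute a c from setLike_mul_comm ha hc).eq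
    exact ⟨coreIn_isPGroup.to_le (mvd_le (le_normalizer_coreIn (hVC (Subgroup.subset_closure (by simp))))),
      fun d hd => mem_normalizer_mvd_of_commute (le_normalizer_coreIn (hVC hd)) (P.commute_mem hd).1⟩
  · rintro _ ⟨c, hc, -, rfl⟩ g hg
    refine mem_normalizer_mvd_of_commute (le_normalizer_coreIn (mem_centralizer_singleton_iff.2 ?_)) ?_
    · exact (mem_centralizer_iff.1 hg c hc).symm
    · exact ((mem_centralizer_iff.1 hg y (Subgroup.subset_closure (by simp))).symm : g * y = y * g)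
  · rintro _ ⟨c, hc, hcy, rfl⟩ _ ⟨c', hc', hc'y, rfl⟩ hne hne'
    obtain ⟨w, hw, hwm⟩ := exists_moved hne
    obtain ⟨w', hw', hwm'⟩ := exists_moved hne'
    have hyCc : y ∈ centralizer ({c} : Set G) :=
      mem_centralizer_singleton_iff.2 (P.commute_mem hc).1.symm.eq
    rcases S.lines_pair hy P hc hcy hc' hc'y with h | h
    swap
    · refine ⟨coreIn q (centralizer ({c} : Set G)), ⟨coreIn_isPGroup, fun d hd =>
        le_normalizer_coreIn (mem_centralizer_singleton_iff.2
          (show Commute d c from setLike_mul_comm hd hc).eq)⟩, ?_, ?_⟩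
      · rwa [inf_of_le_left (mvd_le (le_normalizer_coreIn hyCc))]
      · rw [← h, inf_of_le_left (mvd_le (le_normalizer_coreIn hyCc))]
        rwa [← h] at hne'
    have hw2 : w * y * w⁻¹ * y⁻¹ ∈ mvd y (mvd y (coreIn q (centralizer ({c} : Set G)))) := by
      rw [mvd_mvd hqp hy.ord coreIn_isPGroup (le_normalizer_coreIn hyCc)]; exact cm_mem_mvd hw
    obtain ⟨H, hH, hyH, hc'H, hk, hk'⟩ := S.two hy P hyc hq hqp hq hqp hc
      (fun e => hcy (e ▸ one_mem _)) hc' hc'y h hw hw'
    have hyY := le_normalizer_coreIn (q := q) hyH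
    refine ⟨mvd y (coreIn q H), ⟨coreIn_isPGroup.to_le (mvd_le hyY), ?_⟩, ?_, ?_⟩
    · have hVH : closure ({y, u} : Set G) ≤ H := by
        rw [← P.closure_eq (Subgroup.subset_closure (by simp)) hc'
          (fun e => hp.out.ne_one (by rw [← hy.ord, e, orderOf_one])) hc'y, closure_le]
        rintro z (rfl | rfl) <;> assumption
      exact fun d hd => mem_normalizer_mvd_of_commute (le_normalizer_coreIn (hVH hd)) (P.commute_mem hd).1
    · exact fun e => hwm (commute_of_cm (mem_bot.1 (e.le ⟨cm_mem_mvd hw, hk⟩)))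
    · exact fun e => hwm' (commute_of_cm (mem_bot.1 (e.le ⟨cm_mem_mvd hw', hk'⟩)))

/-- Case I: moved parts for different primes commute. -/
theorem Setting.caseOne_comm (hy : Hyp p y) (hyc : ∀ g : G, Hyp p (g * y * g⁻¹)) (P : Plane p y u)
    (hq : q.Prime) (hqp : q ≠ p) (hr : r.Prime) (hrp : r ≠ p) (hqr : q ≠ r) :
    ∀ a ∈ wq q y, ∀ b ∈ wq r y, Commute a b := by
  suffices h : wq q y ≤ centralizer (wq r y : Set G) from
    fun a ha b hb => ((mem_centralizer_iff.1 (h ha)) b hb).symm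
  rw [S.wq_eq_lines hy P hq hqp, S.wq_eq_lines hy P hr hrp]
  refine sSup_le ?_
  rintro _ ⟨c, hc, hcy, rfl⟩
  rw [le_centralizer_iff]
  refine sSup_le ?_
  rintro _ ⟨c', hc', hc'y, rfl⟩
  rw [le_centralizer_iff]
  haveI := P.comm_all
  have hyCc : ∀ {d : G}, d ∈ closure ({y, u} : Set G) → y ∈ centralizer ({d} : Set G) := fun hd =>
    mem_centralizer_singleton_iff.2 (P.commute_mem hd).1.symm.eq
  rcases S.lines_pair hy P hc hcy hc' hc'y with h | h
  swap
  · intro a ha
    refine mem_centralizer_iff.2 fun b hb => ?_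
    have ha' := mvd_le (le_normalizer_coreIn (hyCc hc)) ha
    have hb' := mvd_le (le_normalizer_coreIn (hyCc hc')) hb
    rw [h] at ha'
    exact (commute_coreIn hq hr hqr ha' hb').symm.eq
  conv_lhs => rw [mvd]
  rw [closure_le]
  rintro _ ⟨w, hw, rfl⟩
  refine mem_centralizer_iff.2 fun b hb => ?_
  have hle : mvd y (coreIn r (centralizer ({c'} : Set G))) ≤
      centralizer ({w * y * w⁻¹ * y⁻¹} : Set G) := by
    rw [mvd, closure_le]
    rintro _ ⟨w', hw', rfl⟩
    obtain ⟨H, hH, hyH, -, hk, hk'⟩ := S.two hy P hyc hq hqp hr hrp hc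
      (fun e => hcy (e ▸ one_mem _)) hc' hc'y h hw hw'
    exact mem_centralizer_singleton_iff.2 (commute_coreIn hq hr hqr (mvd_le (le_normalizer_coreIn hyH) hk)
      (mvd_le (le_normalizer_coreIn hyH) hk')).symm.eq
  exact mem_centralizer_singleton_iff.1 (hle hb)

end Cfsg.Agent.Fus.F2Pairs
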