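import Cfsg.Agent.Lib.Fus.F2Pairs.Join

/-!
The subgroup generated by two conjugates lying in the second Fitting subgroup: the second conjugate
is moved into a common Sylow subgroup by an element of the moved parts.
-/

set_option autoImplicit false
set_option linter.style.haveILetI false
set_option linter.unusedSectionVars false

namespace Cfsg.Agent.Fus.F2Pairs

open Subgroup
open scoped Pointwise

universe u

variable {G : Type u} [Group G] [Finite G] {p : ℕ} [hp : Fact p.Prime] {x : G}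

/-- An element of p-power order normalising a group of order p centralises it. -/
theorem commute_of_pow_normalize {y d : G} (hy : orderOf y = p) {k : ℕ} (hd : d ^ p ^ k = 1)
    (h : d * y * d⁻¹ ∈ zpowers y) : Commute d y := by
  obtain ⟨i, hi⟩ := mem_zpowers_iff.1 h
  have key : ∀ n : ℕ, d ^ n * y * (d ^ n)⁻¹ = y ^ (i ^ n) := by
    intro n
    induction n with
    | zero => simp
    | succ n ih =>
      calc d ^ (n + 1) * y * (d ^ (n + 1))⁻¹ = d ^ n * (d * y * d⁻¹) * (d ^ n)⁻¹ := by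
            rw [pow_succ]; group
        _ = (d ^ n * y * (d ^ n)⁻¹) ^ i := by rw [← hi, conj_zpow]
        _ = y ^ (i ^ (n + 1)) := by rw [ih, ← zpow_mul, pow_succ]
  have h1 := key (p ^ k)
  rw [hd, one_mul, inv_one, mul_one] at h1
  have hd' : (p : ℤ) ∣ i ^ p ^ k - 1 := by
    have e : y ^ (i ^ p ^ k - 1) = 1 := by rw [zpow_sub, zpow_one, ← h1, mul_inv_cancel]
    have := orderOf_dvd_iff_zpow_eq_one.2 e
    rwa [hy] at this
  have hdvd : (p : ℤ) ∣ i - 1 := by
    rw [← ZMod.intCast_zmod_eq_zero_iff_dvd, Int.cast_sub, Int.cast_pow, ZMod.pow_card_pow] at hd'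
    rwa [← ZMod.intCast_zmod_eq_zero_iff_dvd, Int.cast_sub]
  have hyi : y ^ i = y := by
    have e : y ^ (i - 1) = 1 := orderOf_dvd_iff_zpow_eq_one.1 (by rw [hy]; exact hdvd)
    rwa [zpow_sub, zpow_one, mul_inv_eq_one] at e
  rw [hyi] at hi
  exact mul_inv_eq_iff_eq_mul.1 hi.symm

/-- The moved parts of the q-cores of `K` at two elements. -/
def pairPart (p : ℕ) (K : Subgroup G) (x y : G) : Subgroup G :=
  ⨆ q ∈ {q : ℕ | q.Prime ∧ q ≠ p}, mvd x (coreIn q K) ⊔ mvd y (coreIn q K)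

/-- Two conjugates generate a group in which the second is moved into a p-group with the first. -/
theorem Setting.pair_decomp (S : Setting p x) (g : G) :
    ∃ h m : G, h * x * h⁻¹ ∈ closure ({x, g * x * g⁻¹} : Set G) ∧
      IsPGroup p (closure ({x, h * x * h⁻¹} : Set G)) ∧
      g * x * g⁻¹ = m * (h * x * h⁻¹) * m⁻¹ ∧
      m ∈ pairPart p (closure ({x, g * x * g⁻¹} : Set G)) x (h * x * h⁻¹) := by
  classical
  have hx : Hyp p x := by simpa using S.hyp 1
  set x' := g * x * g⁻¹ with hx'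
  set K := closure ({x, x'} : Set G) with hK
  have hKtop : K ≠ ⊤ := hx.pair _
  have hxK : x ∈ K := Subgroup.subset_closure (by simp)
  have hx'K : x' ∈ K := Subgroup.subset_closure (by simp)
  haveI hFn : (Cfsg.fittingSubgroup K).Normal := Grp.fittingSubgroup_isNormal
  set f := QuotientGroup.mk' (Cfsg.fittingSubgroup K)
  set xK : K := ⟨x, hxK⟩
  set xK' : K := ⟨x', hx'K⟩
  have hordK : ∀ {z : K}, orderOf (z : G) = p → IsPGroup p (zpowers z) := fun {z} hz =>
    isPGroup_zpowers_of_ord (by rw [← Subgroup.orderOf_coe]; exact hz)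
  have hcl : closure ({xK, xK'} : Set K) = ⊤ := by
    refine map_injective K.subtype_injective ?_
    rw [MonoidHom.map_closure, Set.image_pair, ← MonoidHom.range_eq_map, range_subtype]
    rfl
  have hin : ∀ {z : K}, (∃ a : G, (z : G) = a * x * a⁻¹) →
      f z ∈ Cfsg.pCore p (K ⧸ Cfsg.fittingSubgroup K) := by
    rintro z ⟨a, ha⟩
    refine Grp.mem_pCore_of_mem_fitting ((ha ▸ S.hyp a : Hyp p (z : G)).mem K hKtop z.2) ?_
    rw [← MonoidHom.map_zpowers]
    exact (hordK (ha ▸ (S.hyp a).ord)).map f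
  have hq : IsPGroup p (K ⧸ Cfsg.fittingSubgroup K) := by
    have htop : (⊤ : Subgroup (K ⧸ Cfsg.fittingSubgroup K)) ≤ Cfsg.pCore p (K ⧸ Cfsg.fittingSubgroup K) := by
      rw [← map_top_of_surjective f (QuotientGroup.mk'_surjective _), ← hcl, MonoidHom.map_closure,
        closure_le]
      rintro _ ⟨z, rfl | rfl, rfl⟩
      · exact hin ⟨1, by simp [xK]⟩
      · exact hin ⟨g, rfl⟩
    exact ((Grp.pCore_isPGroup.to_le htop).of_equiv Subgroup.topEquiv)
  obtain ⟨P, hP⟩ := (hordK (z := xK) hx.ord).exists_le_sylow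
  set N : Subgroup K := ⨆ q ∈ {q : ℕ | q.Prime ∧ q ≠ p}, Cfsg.pCore q K with hN
  haveI hNn : N.Normal := Subgroup.biSup_normal _ _ fun q _ => Grp.pCore_isNormal
  have hFle : Cfsg.fittingSubgroup K ≤ (P : Subgroup K) ⊔ N := by
    rw [Grp.fittingSubgroup_eq_iSup_pCore]
    refine iSup_le fun q => ?_
    by_cases hqp : (q : ℕ) = p
    · rw [hqp]; exact (Grp.pCore_le_sylow P).trans le_sup_left
    · exact (le_iSup₂_of_le (f := fun q (_ : q ∈ {q : ℕ | q.Prime ∧ q ≠ p}) => Cfsg.pCore q K)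
        (q : ℕ) ⟨q.2, hqp⟩ le_rfl).trans le_sup_right
  have htopPN : (P : Subgroup K) ⊔ N = ⊤ := by
    have h1 : (P.mapSurjective (QuotientGroup.mk'_surjective (Cfsg.fittingSubgroup K)) :
        Subgroup (K ⧸ Cfsg.fittingSubgroup K)) = ⊤ :=
      ((P.mapSurjective (QuotientGroup.mk'_surjective _)).is_maximal' (hq.to_subgroup ⊤) le_top).symm
    rw [Sylow.coe_mapSurjective] at h1
    have h2 := congrArg (Subgroup.comap f) h1
    rw [comap_map_eq, comap_top, QuotientGroup.ker_mk'] at h2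
    exact top_le_iff.1 (h2.ge.trans (sup_le le_sup_left hFle))
  obtain ⟨T, hT⟩ := (hordK (z := xK') (S.hyp g).ord).exists_le_sylow
  obtain ⟨s, hs⟩ := MulAction.exists_smul_eq K T P
  have hsm : s ∈ (P : Subgroup K) ⊔ N := htopPN.ge (mem_top s)
  rw [← SetLike.mem_coe, mul_normal] at hsm
  obtain ⟨π, hπ, n, hn, hsn⟩ := Set.mem_mul.1 hsm
  have hnP : n * xK' * n⁻¹ ∈ (P : Subgroup K) := by
    have h1 : s * xK' * s⁻¹ ∈ (P : Subgroup K) := by
      rw [← hs, Sylow.coe_subgroup_smul]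
      exact ⟨_, hT (mem_zpowers _), rfl⟩
    rw [show n * xK' * n⁻¹ = π⁻¹ * (s * xK' * s⁻¹) * π by rw [← hsn]; group]
    exact mul_mem (mul_mem (inv_mem hπ) h1) hπ
  set y := (n : G) * g * x * ((n : G) * g)⁻¹ with hy
  have hyy : y = ((n * xK' * n⁻¹ : K) : G) := by
    simp only [hy, xK', hx', Subgroup.coe_mul, Subgroup.coe_inv]; group
  have hyK : y ∈ K := hyy ▸ (n * xK' * n⁻¹).2
  have hD : IsPGroup p (closure ({x, y} : Set G)) := (P.isPGroup'.map K.subtype).to_le (by
    rw [closure_le]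
    rintro z (rfl | rfl)
    · exact ⟨xK, hP (mem_zpowers _), rfl⟩
    · exact ⟨_, hnP, hyy.symm⟩)
  set D := closure ({x, y} : Set G) with hDdef
  have hDK : D ≤ K := by rw [hDdef, closure_le]; rintro z (rfl | rfl) <;> assumption
  set M := pairPart p K x y with hM
  set NG := N.map K.subtype with hNG
  have hcoreM : ∀ {q : ℕ}, q.Prime → q ≠ p → ∀ w ∈ coreIn q K,
      w ∈ M ⊔ (NG ⊓ centralizer (D : Set G)) ∧ w ∈ normalizer (M : Set G) := by
    intro q hq hqp w hw
    haveI := Fact.mk hq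
    set R := mvd x (coreIn q K) ⊔ mvd y (coreIn q K)
    have hR : R ≤ M := le_iSup₂_of_le (f := fun q (_ : q ∈ {q : ℕ | q.Prime ∧ q ≠ p}) =>
      mvd x (coreIn q K) ⊔ mvd y (coreIn q K)) q ⟨hq, hqp⟩ le_rfl
    have hCN : coreIn q K ≤ normalizer (R : Set G) := fun a ha => by
      rw [mem_normalizer_iff_map_conj_eq, Subgroup.map_sup, mem_normalizer_iff_map_conj_eq.1
        (le_normalizer_mvd ha), mem_normalizer_iff_map_conj_eq.1 (le_normalizer_mvd ha)]
    have hRle : R ≤ coreIn q K :=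
      sup_le (mvd_le (le_normalizer_coreIn hxK)) (mvd_le (le_normalizer_coreIn hyK))
    refine ⟨?_, ?_⟩
    · -- every element of the core is moved times fixed
      have hgood : ∀ d ∈ D, ∀ z ∈ coreIn q K, d * z * d⁻¹ * z⁻¹ ∈ R := by
        intro d hd
        induction hd using closure_induction with
        | mem e he =>
          intro z hz
          rw [show e * z * e⁻¹ * z⁻¹ = (z * e * z⁻¹ * e⁻¹)⁻¹ by group]
          refine inv_mem ?_
          rcases he with rfl | rfl
          · exact mem_sup_left (cm_mem_mvd hz)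
          · exact mem_sup_right (cm_mem_mvd hz)
        | one => intro z hz; simp
        | mul a b ha _ iha ihb =>
          intro z hz
          have hb := ihb z hz
          rw [show a * b * z * (a * b)⁻¹ * z⁻¹ = ((a * (b * z * b⁻¹ * z⁻¹) * a⁻¹ * (b * z * b⁻¹ * z⁻¹)⁻¹) *
              (b * z * b⁻¹ * z⁻¹)) * (a * z * a⁻¹ * z⁻¹) by group]
          exact mul_mem (mul_mem (iha _ (hRle hb)) hb) (iha z hz)
        | inv a ha iha =>
          intro z hz
          have h := iha _ (mem_normalizer_conj (le_normalizer_coreIn (hDK (inv_mem ha))) hz)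
          rw [show a * (a⁻¹ * z * a⁻¹⁻¹) * a⁻¹ * (a⁻¹ * z * a⁻¹⁻¹)⁻¹ = (a⁻¹ * z * a⁻¹⁻¹ * z⁻¹)⁻¹ by
            group] at h
          exact inv_mem_iff.1 h
      have hDR : D ≤ normalizer (R : Set G) := fun d hd => by
        rw [mem_normalizer_iff_map_conj_eq]
        refine eq_of_le_of_card_ge ?_ (card_map_of_injective (MulAut.conj d).injective).ge
        rintro _ ⟨a, ha, rfl⟩
        show d * a * d⁻¹ ∈ R
        rw [show d * a * d⁻¹ = (d * a * d⁻¹ * a⁻¹) * a by group]
        exact mul_mem (hgood d hd a (hRle ha)) ha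
      obtain ⟨u, hu, hc⟩ := exists_fixed_coset (p := p) hp.out hq hqp hD
        (coreIn_isPGroup.to_le hRle) hDR (w := w) (fun a ha => hgood a ha w hw)
      rw [show w = u⁻¹ * (u * w) by group]
      refine mul_mem (mem_sup_left (hR (inv_mem hu))) (mem_sup_right ⟨?_, mem_centralizer_iff.2
        fun a ha => (hc a ha).eq⟩)
      obtain ⟨z, hz, e⟩ := (mul_mem (hRle hu) hw : u * w ∈ coreIn q K)
      exact ⟨z, (le_iSup₂_of_le (f := fun q (_ : q ∈ {q : ℕ | q.Prime ∧ q ≠ p}) => Cfsg.pCore q K)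
        q ⟨hq, hqp⟩ le_rfl) hz, e⟩
    · rw [mem_normalizer_iff_map_conj_eq, hM, pairPart, Subgroup.map_iSup]
      refine iSup_congr fun r => ?_
      rw [Subgroup.map_iSup]
      refine iSup_congr fun hr => ?_
      by_cases hrq : r = q
      · subst hrq; exact mem_normalizer_iff_map_conj_eq.1 (hCN hw)
      · haveI := Fact.mk hr.1
        have hfix : ∀ a ∈ mvd x (coreIn r K) ⊔ mvd y (coreIn r K), w * a * w⁻¹ = a := fun a ha => by
          have := commute_coreIn hq hr.1 (Ne.symm hrq) hw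
            ((sup_le (mvd_le (le_normalizer_coreIn hxK)) (mvd_le (le_normalizer_coreIn hyK))) ha)
          rw [this.eq, mul_inv_cancel_right]
        ext z
        exact ⟨fun ⟨a, ha, e⟩ => (show w * a * w⁻¹ = z from e) ▸ (hfix a ha).symm ▸ ha,
          fun hz => ⟨z, hz, hfix z hz⟩⟩
  have hNGle : NG ≤ (M ⊔ (NG ⊓ centralizer (D : Set G))) ⊓ normalizer (M : Set G) := by
    have e : NG = ⨆ q ∈ {q : ℕ | q.Prime ∧ q ≠ p}, coreIn q K := by
      rw [hNG, hN]; simp only [Subgroup.map_iSup]; rfl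
    exact e.le.trans (iSup₂_le fun q hq z hz => hcoreM hq.1 hq.2 z hz)
  have hnG : (n : G)⁻¹ ∈ M ⊔ (NG ⊓ centralizer (D : Set G)) :=
    (hNGle (inv_mem ⟨n, hn, rfl⟩)).1
  have hCM : NG ⊓ centralizer (D : Set G) ≤ normalizer (M : Set G) :=
    inf_le_left.trans (hNGle.trans inf_le_right)
  rw [← SetLike.mem_coe, coe_mul_of_right_le_normalizer_left _ _ hCM] at hnG
  obtain ⟨m, hm, c, hc, hmc⟩ := Set.mem_mul.1 hnG
  refine ⟨(n : G) * g, m, hyK, hD, ?_, hm⟩
  have hcy : c * y = y * c := (mem_centralizer_iff.1 hc.2 y (Subgroup.subset_closure (by simp))).symm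
  calc x' = (n : G)⁻¹ * y * ((n : G)⁻¹)⁻¹ := by rw [hy, hx']; group
    _ = m * (c * y * c⁻¹) * m⁻¹ := by rw [← hmc]; group
    _ = m * y * m⁻¹ := by rw [hcy, mul_inv_cancel_right]

end Cfsg.Agent.Fus.F2Pairs
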