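import Cfsg.Agent.Lib.Fus.F2Pairs.Colour
import Cfsg.Agent.Lib.Fus.F2Pairs.Pair
import Cfsg.Agent.Lib.Grp.FrobeniusTheorem

/-!
An isolated element of odd prime order has one class of colours: otherwise the normalisers of the
colours cover the group and meet in the normaliser of `⟨x⟩`, which is then a Frobenius complement.
-/

set_option autoImplicit false
set_option linter.style.haveILetI false
set_option linter.unusedSectionVars false

namespace Cfsg.Agent.Fus.F2Pairs

open Subgroup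
open scoped Pointwise

universe u

variable {G : Type u} [Group G] [Finite G] {p q r : ℕ} [hp : Fact p.Prime] {x : G}

theorem mem_stab_iff {m : G} : m ∈ normalizer (zpowers x : Set G) ↔ m * x * m⁻¹ ∈ zpowers x := by
  refine ⟨fun h => mem_normalizer_conj h (mem_zpowers x), fun h => ?_⟩
  rw [mem_normalizer_iff_map_conj_eq, MonoidHom.map_zpowers]
  exact zpowers_conj_eq h

theorem Isolated.stab_le' (I : Isolated p x) (hqp : q ≠ p) {W : Subgroup G} (h : IsColour q x W) :
    normalizer (zpowers x : Set G) ≤ normalizer (W : Set G) :=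
  fun _ hm => I.stab_le hqp h (mem_stab_iff.1 hm)

/-- Two conjugates in a p-group: the second is a power of the first. -/
theorem mem_zpowers_of_iso (hx : Hyp p x)
    (iso : ∀ g : G, Commute (g * x * g⁻¹) x → g * x * g⁻¹ ∈ zpowers x) {h : G}
    (hD : IsPGroup p (closure ({x, h * x * h⁻¹} : Set G))) : h * x * h⁻¹ ∈ zpowers x := by
  set y := h * x * h⁻¹
  set D := closure ({x, y} : Set G)
  have hxD : x ∈ D := Subgroup.subset_closure (by simp)
  have hyD : y ∈ D := Subgroup.subset_closure (by simp)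
  set C := D ⊓ centralizer ({x} : Set G) with hC
  refine iso h ?_
  by_cases hCD : C = D
  · exact mem_centralizer_singleton_iff.1 (hCD.ge hyD).2
  exfalso
  haveI := hD.isNilpotent
  have hlt := Grp.lt_inf_normalizer (P := D) hD.isNilpotent (lt_of_le_of_ne inf_le_left hCD)
  obtain ⟨d, hd, hdC⟩ := SetLike.exists_of_lt hlt
  have hxC : x ∈ C := ⟨hxD, mem_centralizer_singleton_iff.2 rfl⟩
  have h1 : Commute (d * x * d⁻¹) x := mem_centralizer_singleton_iff.1 (mem_normalizer_conj hd.2 hxC).2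
  obtain ⟨k, hk⟩ := hD ⟨d, hd.1⟩
  refine hdC ⟨hd.1, mem_centralizer_singleton_iff.2
    (commute_of_pow_normalize hx.ord (by simpa using congrArg Subtype.val hk) (iso d h1)).eq⟩

theorem Isolated.mem_zpowers_of_pGroup (I : Isolated p x) {h : G}
    (hD : IsPGroup p (closure ({x, h * x * h⁻¹} : Set G))) : h * x * h⁻¹ ∈ zpowers x :=
  mem_zpowers_of_iso I.hx I.iso hD

/-- The colour of an element moving `⟨x⟩`. -/
theorem Isolated.colour_of_elem (I : Isolated p x) {g : G}
    (hg : g ∉ normalizer (zpowers x : Set G)) :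
    ∃ (s : ℕ) (Wg : Subgroup G), s ≠ p ∧ IsColour s x Wg ∧
      ∀ {q : ℕ} {W : Subgroup G}, q ≠ p → IsColour q x W →
        (g ∈ normalizer (W : Set G) ↔ Rel s q Wg W) := by
  classical
  have hx := I.hx
  obtain ⟨h, m, hyK, hD, hgm, hm⟩ := I.toSetting.pair_decomp g
  set K := closure ({x, g * x * g⁻¹} : Set G)
  have hxK : x ∈ K := Subgroup.subset_closure (by simp)
  have hKtop : K ≠ ⊤ := hx.pair _
  have hyx := I.mem_zpowers_of_pGroup hD
  have hxC : ∀ {t : ℕ}, x ∈ normalizer (coreIn t K : Set G) := le_normalizer_coreIn hxK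
  have hm' : m ∈ ⨆ t ∈ {t : ℕ | t.Prime ∧ t ≠ p}, mvd x (coreIn t K) := by
    refine (iSup₂_mono fun t _ => sup_le le_rfl (mvd_zpowers_le hxC hyx) :
      pairPart p K x (h * x * h⁻¹) ≤ _) hm
  have hcN : m⁻¹ * g ∈ normalizer (zpowers x : Set G) := mem_stab_iff.2 (by
    rw [show m⁻¹ * g * x * (m⁻¹ * g)⁻¹ = m⁻¹ * (g * x * g⁻¹) * m by group, hgm,
      show m⁻¹ * (m * (h * x * h⁻¹) * m⁻¹) * m = h * x * h⁻¹ by group]
    exact hyx)
  have hex : ∃ t : ℕ, t.Prime ∧ t ≠ p ∧ mvd x (coreIn t K) ≠ ⊥ := by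
    by_contra hcon
    push Not at hcon
    have : m = 1 := mem_bot.1 ((iSup₂_le fun t ht => (hcon t ht.1 ht.2).le) hm')
    rw [this, inv_one, one_mul] at hcN
    exact hg hcN
  obtain ⟨s, hs, hsp, hsne⟩ := hex
  haveI := Fact.mk hs
  obtain ⟨Wg, hWg, hle⟩ := I.exists_colour hs hsp coreIn_isPGroup hxC hsne
  obtain ⟨a, ha, ham⟩ := I.exists_moved_cm hs hsp coreIn_isPGroup hxC hsne
  have haK : a ∈ Wg ⊓ K := ⟨hle ha, coreIn_le (mvd_le hxC ha)⟩
  refine ⟨s, Wg, hsp, hWg, fun {q W} hqp hW => ⟨fun hgW => ?_, fun hrel => ?_⟩⟩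
  · haveI := Fact.mk hW.prime
    obtain ⟨b, hb, hbm⟩ := I.colour_moved hqp hW
    have hKW : K ≤ normalizer (W : Set G) := by
      rw [closure_le]
      rintro z (rfl | rfl)
      · exact hW.mem_normalizer
      · exact mul_mem (mul_mem hgW hW.mem_normalizer) (inv_mem hgW)
    refine I.rel_of_linked hsp hqp hWg hW ⟨_, I.normalizer_ne_top' hW.isPGroup (fun e => hbm (by
      rw [e, mem_bot] at hb; rw [hb]; exact Commute.one_left x)), hW.mem_normalizer,
      ⟨a, ⟨haK.1, hKW haK.2⟩, ham⟩, b, ⟨hb, le_normalizer hb⟩, hbm⟩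
  · have hmW : m ∈ normalizer (W : Set G) := by
      refine (iSup₂_le fun t ht => ?_ : (⨆ t ∈ {t : ℕ | t.Prime ∧ t ≠ p}, mvd x (coreIn t K)) ≤ _) hm'
      haveI := Fact.mk ht.1
      rcases eq_or_ne (mvd x (coreIn t K)) ⊥ with e | e
      · rw [e]; exact bot_le
      obtain ⟨Wt, hWt, hlet⟩ := I.exists_colour ht.1 ht.2 coreIn_isPGroup hxC e
      obtain ⟨b, hb, hbm⟩ := I.exists_moved_cm ht.1 ht.2 coreIn_isPGroup hxC e
      have hl : Linked x Wt Wg :=
        ⟨K, hKtop, hxK, ⟨b, ⟨hlet hb, coreIn_le (mvd_le hxC hb)⟩, hbm⟩, a, haK, ham⟩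
      exact hlet.trans (I.rel_trans ht.2 hsp hqp hWt hWg hW (I.rel_of_linked ht.2 hsp hWt hWg hl)
        hrel).le_normalizer
    rw [show g = m * (m⁻¹ * g) by group]
    exact mul_mem hmW (I.stab_le' hqp hW hcN)

theorem Isolated.colour_normalizer_inf (I : Isolated p x) (hqp : q ≠ p) (hrp : r ≠ p)
    {W W' : Subgroup G} (hW : IsColour q x W) (hW' : IsColour r x W') (hne : ¬ Rel q r W W') {g : G}
    (hg : g ∈ normalizer (W : Set G)) (hg' : g ∈ normalizer (W' : Set G)) :
    g ∈ normalizer (zpowers x : Set G) := by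
  by_contra hn
  obtain ⟨s, Wg, hsp, hWg, h⟩ := I.colour_of_elem hn
  exact hne (I.rel_trans hqp hsp hrp hW hWg hW' ((h hqp hW).1 hg).symm ((h hrp hW').1 hg'))

/-- All colours are related. -/
theorem Isolated.rel_all (I : Isolated p x) (hqp : q ≠ p) (hrp : r ≠ p) {W W' : Subgroup G}
    (hW : IsColour q x W) (hW' : IsColour r x W') : Rel q r W W' := by
  by_contra hne
  have hx := I.hx
  set N0 := normalizer (zpowers x : Set G) with hN0
  haveI := Fact.mk hW.prime
  haveI := Fact.mk hW'.prime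
  have hxN0 : x ∈ N0 := le_normalizer (mem_zpowers x)
  have hx1 : x ≠ 1 := fun e => hp.out.ne_one (by rw [← hx.ord, e, orderOf_one])
  -- moved elements of colours move `⟨x⟩`
  have hmoved : ∀ {s : ℕ} {V : Subgroup G}, s ≠ p → IsColour s x V → ∃ a ∈ V, a ∉ N0 := by
    intro s V hsp hV
    obtain ⟨a, ha, ham⟩ := I.colour_moved hsp hV
    refine ⟨a, ha, fun haN => ham ?_⟩
    haveI := Fact.mk hV.prime
    have h : a * x * a⁻¹ * x⁻¹ ∈ V ⊓ zpowers x :=
      ⟨mvd_le hV.mem_normalizer (cm_mem_mvd ha),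
        Subgroup.mul_mem _ (mem_stab_iff.1 haN) (Subgroup.inv_mem _ (mem_zpowers x))⟩
    rw [disjoint_of_pgroups hV.prime hp.out hsp hV.isPGroup (isPGroup_zpowers_of_ord hx.ord), mem_bot] at h
    exact commute_of_cm h
  -- an element fixing `⟨x⟩` and one other conjugate fixes those outside the colour of the other
  have hout : ∀ {h z : G}, h ∉ N0 → z ∉ N0 → ∀ {s t : ℕ} {V V' : Subgroup G}, s ≠ p → t ≠ p →
      IsColour s x V → IsColour t x V' → h ∈ normalizer (V : Set G) → z ∈ normalizer (V' : Set G) →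
      ¬ Rel s t V V' → ∀ e ∈ N0, h⁻¹ * e * h ∈ N0 → z⁻¹ * e * z ∈ N0 := by
    intro h z hh hz s t V V' hsp htp hV hV' hhV hzV hne' e he heh
    have hhz : h⁻¹ * z ∉ N0 := fun hc => hz (I.colour_normalizer_inf hsp htp hV hV' hne' (by
      rw [show z = h * (h⁻¹ * z) by group]
      exact mul_mem hhV (I.stab_le' hsp hV hc)) hzV)
    obtain ⟨u, Wu, hup, hWu, hu⟩ := I.colour_of_elem hhz
    have hne2 : ¬ Rel t u V' Wu := fun hr' => hh (I.colour_normalizer_inf hsp htp hV hV' hne' hhV (by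
      rw [show h = z * (h⁻¹ * z)⁻¹ by group]
      exact mul_mem hzV (inv_mem ((hu htp hV').2 hr'.symm))))
    have hrefl : Rel u u Wu Wu := ⟨fun _ => rfl, fun e => absurd rfl e⟩
    have h1 : z⁻¹ * e * z ∈ normalizer (V' : Set G) :=
      mul_mem (mul_mem (inv_mem hzV) (I.stab_le' htp hV' he)) hzV
    have h2 : z⁻¹ * e * z ∈ normalizer (Wu : Set G) := by
      rw [show z⁻¹ * e * z = (h⁻¹ * z)⁻¹ * (h⁻¹ * e * h) * (h⁻¹ * z) by group]
      exact mul_mem (mul_mem (inv_mem ((hu hup hWu).2 hrefl)) (I.stab_le' hup hWu heh))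
        ((hu hup hWu).2 hrefl)
    exact I.colour_normalizer_inf htp hup hV' hWu hne2 h1 h2
  have hall : ∀ {h : G}, h ∉ N0 → ∀ e ∈ N0, h⁻¹ * e * h ∈ N0 → ∀ z : G, z⁻¹ * e * z ∈ N0 := by
    intro h hh e he heh z
    by_cases hz : z ∈ N0
    · exact mul_mem (mul_mem (inv_mem hz) he) hz
    obtain ⟨s, V, hsp, hV, hs⟩ := I.colour_of_elem hh
    obtain ⟨t, V', htp, hV', ht⟩ := I.colour_of_elem hz
    have hhV : h ∈ normalizer (V : Set G) :=
      (hs hsp hV).2 ⟨fun _ => rfl, fun e => absurd rfl e⟩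
    have hzV : z ∈ normalizer (V' : Set G) :=
      (ht htp hV').2 ⟨fun _ => rfl, fun e => absurd rfl e⟩
    by_cases hrel : Rel s t V V'
    swap
    · exact hout hh hz hsp htp hV hV' hhV hzV hrel e he heh
    obtain ⟨u, V2, hup, hV2, hne2⟩ : ∃ (u : ℕ) (V2 : Subgroup G), u ≠ p ∧ IsColour u x V2 ∧
        ¬ Rel s u V V2 := by
      by_cases h1 : Rel s q V W
      · exact ⟨r, W', hrp, hW', fun h2 => hne (I.rel_trans hqp hsp hrp hW hV hW' h1.symm h2)⟩
      · exact ⟨q, W, hqp, hW, h1⟩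
    obtain ⟨h2, hh2V, hh2⟩ := hmoved hup hV2
    have he2 := hout hh hh2 hsp hup hV hV2 hhV (le_normalizer hh2V) hne2 e he heh
    exact hout hh2 hz hup htp hV2 hV' (le_normalizer hh2V) hzV
      (fun h3 => hne2 (I.rel_trans hsp htp hup hV hV' hV2 hrel h3.symm)) e he he2
  -- the core of the normaliser is trivial
  have hcore : ∀ e : G, (∀ z : G, z⁻¹ * e * z ∈ N0) → e = 1 := by
    intro e he
    set Kn := normalClosure ({e} : Set G)
    have hKn : Kn ≤ N0 := by
      rw [show Kn = closure (Group.conjugatesOfSet ({e} : Set G)) from rfl, closure_le]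
      intro c hc
      obtain ⟨a, ha, hc'⟩ := Group.mem_conjugatesOfSet_iff.1 hc
      obtain ⟨z, rfl⟩ := _root_.isConj_iff.1 hc'
      rw [Set.mem_singleton_iff.1 ha]
      simpa using he z⁻¹
    haveI hKnn : Kn.Normal := normalClosure_normal
    have hconj : ∀ {a : G}, a ∈ Kn → ∀ g : G, a * (g * x * g⁻¹) * a⁻¹ ∈ zpowers (g * x * g⁻¹) := by
      intro a ha g
      have h1 := mem_stab_iff.1 (hKn (hKnn.conj_mem a ha g⁻¹))
      rw [show zpowers (g * x * g⁻¹) = (zpowers x).map (MulAut.conj g).toMonoidHom by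
        rw [MonoidHom.map_zpowers]; rfl]
      exact ⟨_, h1, by simp [mul_assoc]⟩
    have hxKn : ∀ a ∈ Kn, Commute a x := by
      intro a ha
      by_contra hc
      have h1 : a * x * a⁻¹ * x⁻¹ ∈ zpowers x := by
        refine mul_mem ?_ (inv_mem (mem_zpowers x))
        simpa using hconj ha 1
      have h2 : a * x * a⁻¹ * x⁻¹ ∈ Kn := by
        rw [show a * x * a⁻¹ * x⁻¹ = a * (x * a⁻¹ * x⁻¹) by group]
        exact mul_mem ha (hKnn.conj_mem _ (inv_mem ha) x)
      have hxK : x ∈ Kn := by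
        refine zpowers_le.2 h2 (mem_zpowers_symm (fun e1 => hc (commute_of_cm e1)) hx.ord h1)
      have hNK : normalClosure ({x} : Set G) ≤ Kn :=
        normalClosure_le_normal (Set.singleton_subset_iff.2 hxK)
      have hcomm : ∀ g k : G, Commute (g * x * g⁻¹) (k * x * k⁻¹) := fun g k =>
        commute_of_pow_normalize (k := 1) (I.hyp k).ord
          (by rw [pow_one, ← (I.hyp g).ord, pow_orderOf_eq_one])
          (hconj (hNK (normalClosure_normal.conj_mem _ (subset_normalClosure (Set.mem_singleton x)) g)) k)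
      have hab : IsMulCommutative (closure (Group.conjugatesOfSet ({x} : Set G))) :=
        Subgroup.isMulCommutative_closure fun a ha b hb => by
          obtain ⟨a', ha1, ha'⟩ := Group.mem_conjugatesOfSet_iff.1 ha
          obtain ⟨b', hb1, hb'⟩ := Group.mem_conjugatesOfSet_iff.1 hb
          obtain ⟨g, rfl⟩ := _root_.isConj_iff.1 ha'
          obtain ⟨k, rfl⟩ := _root_.isConj_iff.1 hb'
          rw [Set.mem_singleton_iff.1 ha1, Set.mem_singleton_iff.1 hb1]
          exact (hcomm g k).eq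
      have hbot := I.noSolv (normalClosure ({x} : Set G)) normalClosure_normal
        (Group.isSolvable_of_comm fun a b => hab.is_comm.comm a b)
      exact hx1 (mem_bot.1 (hbot ▸ subset_normalClosure (Set.mem_singleton x)))
    have hKC : Kn ≤ centralizer (normalClosure ({x} : Set G) : Set G) := by
      rw [le_centralizer_iff]
      haveI : (centralizer (Kn : Set G)).Normal := Subgroup.normal_centralizer
      exact normalClosure_le_normal (Set.singleton_subset_iff.2
        (mem_centralizer_iff.2 fun a ha => (hxKn a ha).eq))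
    rw [I.cent] at hKC
    exact mem_bot.1 (hKC (subset_normalClosure (Set.mem_singleton e)))
  have hcomp : Cfsg.IsFrobeniusComplement N0 := by
    refine ⟨fun e => hx1 (mem_bot.1 (e ▸ hxN0)), I.normalizer_ne_top (Group.isSolvable_of_comm fun a b =>
      Subtype.ext (setLike_mul_comm a.2 b.2)) (fun e => hx1 (zpowers_eq_bot.1 e)), fun g hg =>
      (eq_bot_iff_forall _).2 fun e he => ?_⟩
    obtain ⟨he1, he2⟩ := Subgroup.mem_inf.1 he
    rw [Subgroup.mem_pointwise_smul_iff_inv_smul_mem] at he2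
    exact hcore e (hall hg e he1 (by simpa [MulAut.smul_def] using he2))
  letI := Fintype.ofFinite G
  obtain ⟨N, -, hNn, hNc, hNnil⟩ := Grp.frobenius_kernel_spec hcomp
  have hN : N = ⊥ := by
    haveI := hNnil
    exact I.noSolv N hNn inferInstance
  rw [hN] at hNc
  exact hcomp.2.1 (isComplement'_bot_left.1 hNc)

theorem Isolated.wq_le_colour (I : Isolated p x) (hqp : q ≠ p) {W : Subgroup G}
    (hW : IsColour q x W) : wq q x ≤ W := by
  haveI := Fact.mk hW.prime
  rw [wq, closure_le]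
  rintro k ⟨Q, hQ, hxQ, w, hw, rfl⟩
  rcases eq_or_ne (mvd x Q) ⊥ with e | e
  · have := cm_mem_mvd (y := x) hw
    rw [e, mem_bot] at this
    rw [SetLike.mem_coe, this]
    exact one_mem _
  obtain ⟨W', hW', hle⟩ := I.exists_colour hW.prime hqp hQ hxQ e
  rw [(I.rel_all hqp hqp hW hW').1 rfl]
  exact hle (cm_mem_mvd hw)

theorem Isolated.wq_cases (I : Isolated p x) (hq : q.Prime) (hqp : q ≠ p) :
    wq q x = ⊥ ∨ ∃ W, IsColour q x W ∧ wq q x ≤ W := by
  haveI := Fact.mk hq
  refine or_iff_not_imp_left.2 fun hne => ?_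
  by_contra hcon
  push Not at hcon
  refine hne (le_bot_iff.1 ?_)
  rw [wq, closure_le]
  rintro k ⟨Q, hQ, hxQ, w, hw, rfl⟩
  by_contra hk
  obtain ⟨W, hW, -⟩ := I.exists_colour hq hqp hQ hxQ (fun e => hk (e ▸ cm_mem_mvd hw))
  exact hcon W hW (I.wq_le_colour hqp hW)

theorem Isolated.wq_isPGroup (I : Isolated p x) (hq : q.Prime) (hqp : q ≠ p) :
    IsPGroup q (wq q x) := by
  rcases I.wq_cases hq hqp with e | ⟨W, hW, hle⟩
  · rw [e]; exact IsPGroup.of_bot
  · exact hW.isPGroup.to_le hle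

theorem Isolated.wq_commute (I : Isolated p x) (hq : q.Prime) (hqp : q ≠ p) (hr : r.Prime)
    (hrp : r ≠ p) (hqr : q ≠ r) : ∀ a ∈ wq q x, ∀ b ∈ wq r x, Commute a b := by
  intro a ha b hb
  rcases I.wq_cases hq hqp with e | ⟨W, hW, hle⟩
  · rw [e, mem_bot] at ha; rw [ha]; exact Commute.one_left b
  rcases I.wq_cases hr hrp with e | ⟨W', hW', hle'⟩
  · rw [e, mem_bot] at hb; rw [hb]; exact Commute.one_right a
  exact (I.rel_all hqp hrp hW hW').2 hqr a (hle ha) b (hle' hb)

end Cfsg.Agent.Fus.F2Pairs
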