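import Cfsg.Agent.Lib.Fus.F2Pairs.CaseOne
import Cfsg.Agent.S3816

/-!
An isolated element of odd prime order: the maximal invariant q-subgroups with fixed points in the
q-core of the centraliser are disjoint on moved elements; their moved parts ("colours") commute as
soon as they are linked in a proper subgroup.
-/

set_option autoImplicit false
set_option linter.style.haveILetI false
set_option linter.unusedSectionVars false

namespace Cfsg.Agent.Fus.F2Pairs

open Subgroup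
open scoped Pointwise

universe u

variable {G : Type u} [Group G] [Finite G] {p q r : ℕ} [hp : Fact p.Prime] {x : G}

/-- An odd counterexample commuting with no conjugate outside the group it generates. -/
structure Isolated (p : ℕ) (x : G) : Prop extends Setting p x where
  odd : p ≠ 2
  iso : ∀ g : G, Commute (g * x * g⁻¹) x → g * x * g⁻¹ ∈ zpowers x

/-- An invariant q-group whose fixed points lie in the q-core of the centraliser. -/
def MemS (q : ℕ) (x : G) (X : Subgroup G) : Prop :=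
  IsPGroup q X ∧ x ∈ normalizer (X : Set G) ∧
    ∀ c ∈ X, Commute c x → c ∈ coreIn q (centralizer ({x} : Set G))

/-- A colour: the moved part of a maximal such group. -/
def IsColour (q : ℕ) (x : G) (W : Subgroup G) : Prop :=
  q.Prime ∧ ∃ X, Maximal (MemS q x) X ∧ W = mvd x X ∧ W ≠ ⊥

theorem Isolated.hx (I : Isolated p x) : Hyp p x := by simpa using I.hyp 1

/-- A commutator commuting with `x` is trivial. -/
theorem Isolated.cm_eq_one (I : Isolated p x) (hq : q.Prime) (hqp : q ≠ p) {Q : Subgroup G}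
    (hQ : IsPGroup q Q) (hxQ : x ∈ normalizer (Q : Set G)) {w : G} (hw : w ∈ Q)
    (hc : Commute (w * x * w⁻¹ * x⁻¹) x) : w * x * w⁻¹ * x⁻¹ = 1 := by
  have h1 : Commute (w * x * w⁻¹) x := by
    have := hc.mul_left (Commute.refl x)
    rwa [inv_mul_cancel_right] at this
  have h2 : w * x * w⁻¹ * x⁻¹ ∈ Q ⊓ zpowers x :=
    ⟨mvd_le hxQ (cm_mem_mvd hw), Subgroup.mul_mem _ (I.iso w h1) (Subgroup.inv_mem _ (mem_zpowers x))⟩
  rwa [disjoint_of_pgroups hq hp.out hqp hQ (isPGroup_zpowers_of_ord I.hx.ord), mem_bot] at h2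

/-- A nontrivial moved part contains a moved commutator. -/
theorem Isolated.exists_moved_cm (I : Isolated p x) (hq : q.Prime) (hqp : q ≠ p) {Q : Subgroup G}
    (hQ : IsPGroup q Q) (hxQ : x ∈ normalizer (Q : Set G)) (h : mvd x Q ≠ ⊥) :
    ∃ a ∈ mvd x Q, ¬ Commute a x := by
  obtain ⟨w, hw, hwm⟩ := exists_moved h
  exact ⟨_, cm_mem_mvd hw, fun hc => hwm (commute_of_cm (I.cm_eq_one hq hqp hQ hxQ hw hc))⟩

/-- Fixed points of a moved part lie in the q-core of the centraliser. -/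
theorem Isolated.fixed_mem_core (I : Isolated p x) (hq : q.Prime) (hqp : q ≠ p) {Q : Subgroup G}
    (hQ : IsPGroup q Q) (hxQ : x ∈ normalizer (Q : Set G)) {f : G} (hf : f ∈ mvd x Q)
    (hc : Commute f x) : f ∈ coreIn q (centralizer ({x} : Set G)) := by
  haveI := Fact.mk hq
  by_cases htriv : mvd x Q = ⊥
  · rw [htriv, mem_bot] at hf; rw [hf]; exact one_mem _
  let φ : MulAut Q :=
    { toFun := fun a => ⟨x * a * x⁻¹, mem_normalizer_conj hxQ a.2⟩
      invFun := fun a => ⟨x⁻¹ * a * x, by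
        have := mem_normalizer_conj (inv_mem hxQ) a.2; rwa [inv_inv] at this⟩
      left_inv := fun a => Subtype.ext (by simp [mul_assoc])
      right_inv := fun a => Subtype.ext (by simp [mul_assoc])
      map_mul' := fun a b => Subtype.ext (by simp [mul_assoc]) }
  have hpow : ∀ (i : ℕ) (a : Q), (((φ ^ i) a : Q) : G) = x ^ i * a * (x ^ i)⁻¹ := by
    intro i
    induction i with
    | zero => intro a; simp
    | succ i ih =>
      intro a
      rw [pow_succ, MulAut.mul_apply, ih]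
      show x ^ i * (x * a * x⁻¹) * (x ^ i)⁻¹ = _
      rw [pow_succ]; group
  have hord : orderOf φ = p := by
    refine orderOf_eq_prime (MulEquiv.ext fun a => Subtype.ext ?_) fun e => htriv ?_
    · rw [hpow, ← I.hx.ord, pow_orderOf_eq_one]; simp
    · refine mvd_eq_bot_iff.2 fun w hw => ?_
      have h : x * w * x⁻¹ = w := congrArg Subtype.val (DFunLike.congr_fun e ⟨w, hw⟩)
      exact (mul_inv_eq_iff_eq_mul.1 h).symm
  haveI := hQ.isNilpotent
  have hcop : (Nat.card Q).Coprime p := by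
    obtain ⟨k, hk⟩ := IsPGroup.iff_card.1 hQ
    rw [hk]
    exact ((Nat.coprime_primes hq hp.out).2 hqp).pow_left k
  have hval := S3816.result (H := Q) I.odd hcop φ hord
  have hfQ : f ∈ Q := mvd_le hxQ hf
  have hfix : φ ⟨f, hfQ⟩ = ⟨f, hfQ⟩ := Subtype.ext (by
    show x * f * x⁻¹ = f
    rw [← hc.eq, mul_inv_cancel_right])
  have hmem : (⟨f, hfQ⟩ : Q) ∈ Subgroup.closure {c : Q | ∃ h : Q, ∃ i : ℕ, c = h⁻¹ * (φ ^ i) h} := by
    have hle : mvd x Q ≤ (Subgroup.closure {c : Q | ∃ h : Q, ∃ i : ℕ, c = h⁻¹ * (φ ^ i) h}).map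
        Q.subtype := by
      rw [mvd, closure_le]
      rintro _ ⟨w, hw, rfl⟩
      refine ⟨_, Subgroup.subset_closure ⟨⟨w⁻¹, inv_mem hw⟩, 1, rfl⟩, ?_⟩
      show (w⁻¹)⁻¹ * (((φ ^ 1) ⟨w⁻¹, inv_mem hw⟩ : Q) : G) = _
      rw [hpow]; simp [mul_assoc]
    obtain ⟨z, hz, e⟩ := hle hf
    rwa [show z = ⟨f, hfQ⟩ from Subtype.ext e] at hz
  have hin := hval.le ⟨hmem, hfix⟩
  set U := coreIn q (centralizer ({x} : Set G))
  suffices hU : (⨆ h : Q, Subgroup.closure {c : Q | ∃ i : ℕ, c = h⁻¹ * (φ ^ i) h} ⊓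
      (φ : Q →* Q).eqLocus (MonoidHom.id Q)) ≤ U.comap Q.subtype from hU hin
  refine iSup_le fun h c hc' => ?_
  show (c : G) ∈ U
  have hcC : (c : G) ∈ centralizer ({x} : Set G) := by
    have e : x * c * x⁻¹ = c := congrArg Subtype.val hc'.2
    exact mem_centralizer_singleton_iff.2 (mul_inv_eq_iff_eq_mul.1 e).symm
  refine ⟨⟨c, hcC⟩, Grp.baer_suzuki _ fun m => ?_, rfl⟩
  have hmx : (m : G) * x * (m : G)⁻¹ ∈ zpowers x := by
    rw [mem_centralizer_singleton_iff.1 m.2, mul_inv_cancel_right]; exact mem_zpowers x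
  obtain ⟨H, hH, hxH, hmH, hk, -⟩ := slot I.hx hq hqp hQ hxQ (inv_mem h.2) hmx
  have hXn : x ∈ normalizer (mvd x (coreIn q H) : Set G) :=
    mem_normalizer_mvd (le_normalizer_coreIn hxH)
  have hcH : (c : G) ∈ coreIn q H := by
    refine mvd_le (le_normalizer_coreIn hxH) ?_
    have hle : Subgroup.closure {c : Q | ∃ i : ℕ, c = h⁻¹ * (φ ^ i) h} ≤
        (mvd x (coreIn q H)).comap Q.subtype := by
      rw [closure_le]
      rintro _ ⟨i, rfl⟩
      show (h : G)⁻¹ * (((φ ^ i) h : Q) : G) ∈ mvd x (coreIn q H)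
      rw [hpow]
      clear hmem hfix hval hin
      induction i with
      | zero => simp
      | succ i ih =>
        rw [show (h : G)⁻¹ * (x ^ (i + 1) * h * (x ^ (i + 1))⁻¹) = ((h : G)⁻¹ * x * (h : G)⁻¹⁻¹ * x⁻¹) *
            (x * ((h : G)⁻¹ * (x ^ i * h * (x ^ i)⁻¹)) * x⁻¹) by rw [pow_succ']; group]
        exact mul_mem hk (mem_normalizer_conj hXn ih)
    exact hle hc'.1
  intro z
  obtain ⟨z, hz⟩ := z
  have hle : Subgroup.closure {(⟨c, hcC⟩ : centralizer ({x} : Set G)), m * ⟨c, hcC⟩ * m⁻¹} ≤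
      (coreIn q H).comap (centralizer ({x} : Set G)).subtype := by
    rw [closure_le]
    rintro w (rfl | rfl)
    · exact hcH
    · show (m : G) * c * (m : G)⁻¹ ∈ coreIn q H
      exact mem_normalizer_conj (le_normalizer_coreIn hmH) hcH
  obtain ⟨k, hk⟩ := (coreIn_isPGroup : IsPGroup q (coreIn q H)) ⟨(z : G), hle hz⟩
  refine ⟨k, Subtype.ext (Subtype.ext ?_)⟩
  simpa using congrArg Subtype.val hk

theorem Isolated.mvd_memS (I : Isolated p x) (hq : q.Prime) (hqp : q ≠ p) {Q : Subgroup G}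
    (hQ : IsPGroup q Q) (hxQ : x ∈ normalizer (Q : Set G)) : MemS q x (mvd x Q) :=
  ⟨hQ.to_le (mvd_le hxQ), mem_normalizer_mvd hxQ, fun _ hc h => I.fixed_mem_core hq hqp hQ hxQ hc h⟩

set_option maxHeartbeats 1000000 in
/-- Maximal members sharing a moved element coincide. -/
theorem Isolated.unique (I : Isolated p x) (hq : q.Prime) (hqp : q ≠ p) :
    ∀ (n : ℕ) (X X' : Subgroup G), Maximal (MemS q x) X → Maximal (MemS q x) X' →
      (∃ a ∈ X ⊓ X', ¬ Commute a x) → Nat.card G - Nat.card ↥(X ⊓ X') = n → X = X' := by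
  haveI := Fact.mk hq
  intro n
  induction n using Nat.strong_induction_on with
  | _ n ih =>
  intro X X' hX hX' hmov hn
  set B := X ⊓ X' with hB
  obtain ⟨a, haB, ham⟩ := hmov
  by_cases hBX : B = X
  · exact le_antisymm (hBX ▸ inf_le_right) (hX.2 hX'.1 (hBX ▸ inf_le_right))
  have hBX' : B ≠ X' := fun e => by
    have h : X' ≤ X := e ▸ inf_le_left
    exact hBX (by rw [hB, le_antisymm h (hX'.2 hX.1 h), inf_idem])
  have hBne : B ≠ ⊥ := fun e => ham (by rw [e, mem_bot] at haB; rw [haB]; exact Commute.one_left x)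
  set N := normalizer (B : Set G)
  have hN : N ≠ ⊤ := I.normalizer_ne_top' (hX.1.1.to_le (inf_le_left : B ≤ X)) hBne
  have hxN : x ∈ N := mem_normalizer_inf hX.1.2.1 hX'.1.2.1
  have hxC := le_normalizer_coreIn (q := q) hxN
  set U := coreIn q (centralizer ({x} : Set G))
  set R := mvd x (coreIn q N)
  have hUN : U ⊓ N ≤ normalizer (R : Set G) := fun u hu =>
    mem_normalizer_mvd_of_commute (le_normalizer_coreIn hu.2)
      (mem_centralizer_singleton_iff.1 (coreIn_le hu.1))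
  have hUx : x ∈ normalizer ((U ⊓ N : Subgroup G) : Set G) :=
    mem_normalizer_inf (le_normalizer_coreIn (mem_centralizer_singleton_iff.2 rfl)) (le_normalizer hxN)
  have hZ : MemS q x (R ⊔ (U ⊓ N)) := by
    refine ⟨(coreIn_isPGroup.to_le (mvd_le hxC) : IsPGroup q R).to_sup_of_normal_left'
      (coreIn_isPGroup.to_le inf_le_left) hUN, ?_, fun c hc hcx => ?_⟩
    · rw [mem_normalizer_iff_map_conj_eq, Subgroup.map_sup,
        mem_normalizer_iff_map_conj_eq.1 (mem_normalizer_mvd hxC), mem_normalizer_iff_map_conj_eq.1 hUx]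
    rw [← SetLike.mem_coe, coe_mul_of_right_le_normalizer_left _ _ hUN] at hc
    obtain ⟨r', hr', u, hu, rfl⟩ := Set.mem_mul.1 hc
    have hr'x : Commute r' x := by
      have h := hcx.mul_left (Commute.inv_left (mem_centralizer_singleton_iff.1 (coreIn_le hu.1)))
      rwa [mul_inv_cancel_right] at h
    exact mul_mem (I.fixed_mem_core hq hqp coreIn_isPGroup hxC hr' hr'x) hu.1
  obtain ⟨Z, hle, hZm⟩ := Finite.exists_le_maximal (p := MemS q x) hZ
  have hsplit : ∀ A : Subgroup G, MemS q x A → A ⊓ N ≤ Z := by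
    intro A hA w hw
    have hxA : x ∈ normalizer ((A ⊓ N : Subgroup G) : Set G) :=
      mem_normalizer_inf hA.2.1 (le_normalizer hxN)
    obtain ⟨r', hr', c, hc, hcx, rfl⟩ :=
      exists_mvd_mul_fixed hqp I.hx.ord (hA.1.to_le inf_le_left) hxA hw
    exact hle (mul_mem (mem_sup_left (mvd_le_mvd_coreIn I.hx hN hxN hq hqp (hA.1.to_le inf_le_left)
      inf_le_right hxA hr')) (mem_sup_right ⟨hA.2.2 c hc.1 hcx, hc.2⟩))
  have hlt := Grp.lt_inf_normalizer hX.1.1.isNilpotent (lt_of_le_of_ne inf_le_left hBX)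
  have hlt' := Grp.lt_inf_normalizer hX'.1.1.isNilpotent (lt_of_le_of_ne inf_le_right hBX')
  have hdec : ∀ {A₁ A₂ E : Subgroup G}, B < E → E ≤ A₁ ⊓ A₂ →
      Nat.card G - Nat.card ↥(A₁ ⊓ A₂) < n := by
    intro A₁ A₂ E h hle'
    have a1 : Nat.card B < Nat.card E :=
      lt_of_le_of_ne (card_le_of_le h.le) fun e => h.ne (eq_of_le_of_card_ge h.le e.ge)
    have a2 := card_le_of_le hle'
    have a3 := Subgroup.card_le_card_group (A₁ ⊓ A₂)
    omega
  have hE : X ⊓ N ≤ X ⊓ Z := le_inf inf_le_left (hsplit X hX.1)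
  have hE' : X' ⊓ N ≤ X' ⊓ Z := le_inf inf_le_left (hsplit X' hX'.1)
  rw [ih _ (hdec hlt hE) X Z hX hZm ⟨a, hE (hlt.le haB), ham⟩ rfl,
    ← ih _ (hdec hlt' hE') X' Z hX' hZm ⟨a, hE' (hlt'.le haB), ham⟩ rfl]

variable {W W' : Subgroup G}

theorem IsColour.prime (h : IsColour q x W) : q.Prime := h.1

theorem IsColour.isPGroup (h : IsColour q x W) : IsPGroup q W := by
  obtain ⟨-, X, hX, rfl, -⟩ := h
  exact hX.1.1.to_le (mvd_le hX.1.2.1)

theorem IsColour.mem_normalizer (h : IsColour q x W) : x ∈ normalizer (W : Set G) := by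
  obtain ⟨-, X, hX, rfl, -⟩ := h
  exact mem_normalizer_mvd hX.1.2.1

theorem Isolated.mvd_colour (I : Isolated p x) (hqp : q ≠ p) (h : IsColour q x W) : mvd x W = W := by
  obtain ⟨hq, X, hX, rfl, -⟩ := h
  haveI := Fact.mk hq
  exact mvd_mvd hqp I.hx.ord hX.1.1 hX.1.2.1

theorem Isolated.colour_moved (I : Isolated p x) (hqp : q ≠ p) (h : IsColour q x W) :
    ∃ a ∈ W, ¬ Commute a x := by
  obtain ⟨hq, X, hX, rfl, hne⟩ := h
  exact I.exists_moved_cm hq hqp hX.1.1 hX.1.2.1 hne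

theorem Isolated.absorb (I : Isolated p x) (hqp : q ≠ p) (h : IsColour q x W) {Q : Subgroup G}
    (hQ : IsPGroup q Q) (hxQ : x ∈ normalizer (Q : Set G)) {a : G} (ha : a ∈ mvd x Q) (haW : a ∈ W)
    (ham : ¬ Commute a x) : mvd x Q ≤ W := by
  obtain ⟨hq, X, hX, rfl, -⟩ := h
  haveI := Fact.mk hq
  obtain ⟨X', hle, hX'⟩ := Finite.exists_le_maximal (p := MemS q x) (I.mvd_memS hq hqp hQ hxQ)
  have e := I.unique hq hqp _ X X' hX hX' ⟨a, ⟨mvd_le hX.1.2.1 haW, hle ha⟩, ham⟩ rfl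
  rw [← mvd_mvd hqp I.hx.ord hQ hxQ, e]
  exact mvd_mono hle

theorem Isolated.exists_colour (I : Isolated p x) (hq : q.Prime) (hqp : q ≠ p) {Q : Subgroup G}
    (hQ : IsPGroup q Q) (hxQ : x ∈ normalizer (Q : Set G)) (hne : mvd x Q ≠ ⊥) :
    ∃ W, IsColour q x W ∧ mvd x Q ≤ W := by
  haveI := Fact.mk hq
  obtain ⟨X, hle, hX⟩ := Finite.exists_le_maximal (p := MemS q x) (I.mvd_memS hq hqp hQ hxQ)
  have h : mvd x Q ≤ mvd x X := by
    rw [← mvd_mvd hqp I.hx.ord hQ hxQ]; exact mvd_mono hle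
  exact ⟨mvd x X, ⟨hq, X, hX, rfl, fun e => hne (le_bot_iff.1 (e ▸ h))⟩, h⟩

/-- The normaliser of `⟨x⟩` normalises every colour. -/
theorem Isolated.stab_le (I : Isolated p x) (hqp : q ≠ p) (h : IsColour q x W) {m : G}
    (hm : m * x * m⁻¹ ∈ zpowers x) : m ∈ normalizer (W : Set G) := by
  obtain ⟨hq, X, hX, rfl, hne⟩ := h
  refine mem_normalizer_of_gen ?_
  rintro _ ⟨w, hw, rfl⟩
  rcases eq_or_ne (w * x * w⁻¹ * x⁻¹) 1 with e | e
  · rw [e, mul_one, mul_inv_cancel]; exact one_mem _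
  obtain ⟨H, hH, hxH, hmH, hk, -⟩ := slot I.hx hq hqp hX.1.1 hX.1.2.1 hw hm
  have hW : IsColour q x (mvd x X) := ⟨hq, X, hX, rfl, hne⟩
  refine I.absorb hqp hW coreIn_isPGroup (le_normalizer_coreIn hxH) hk (cm_mem_mvd hw)
    (fun hc => e (I.cm_eq_one hq hqp hX.1.1 hX.1.2.1 hw hc)) ?_
  have h2 : mvd (m * x * m⁻¹) (coreIn q H) ≤ mvd x (coreIn q H) :=
    mvd_zpowers_le (le_normalizer_coreIn hxH) hm
  refine h2 ?_
  have h1 := mem_map_of_mem (MulAut.conj m).toMonoidHom hk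
  have e1 : (coreIn q H).map (MulAut.conj m).toMonoidHom = coreIn q H :=
    mem_normalizer_iff_map_conj_eq.1 (le_normalizer_coreIn hmH)
  rwa [mvd_map, e1] at h1

/-- Two colours meeting one proper subgroup in moved elements. -/
def Linked (x : G) (W W' : Subgroup G) : Prop :=
  ∃ H : Subgroup G, H ≠ ⊤ ∧ x ∈ H ∧ (∃ a ∈ W ⊓ H, ¬ Commute a x) ∧ ∃ b ∈ W' ⊓ H, ¬ Commute b x

/-- Equal for one prime, commuting for two. -/
def Rel (q r : ℕ) (W W' : Subgroup G) : Prop :=
  (q = r → W = W') ∧ (q ≠ r → ∀ a ∈ W, ∀ b ∈ W', Commute a b)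

/-- A commuting moved part makes one colour commute with the moved part of the other. -/
theorem Isolated.half (I : Isolated p x) (hqp : q ≠ p) (hrp : r ≠ p) (hqr : q ≠ r)
    (hW : IsColour q x W) (hW' : IsColour r x W') {A B : Subgroup G} (hA : A ≤ W)
    (hxA : x ∈ normalizer (A : Set G)) (hAne : mvd x A ≠ ⊥) (hB : B ≤ W')
    (hxB : x ∈ normalizer (B : Set G)) (hBne : mvd x B ≠ ⊥)
    (hAB : ∀ a ∈ A, ∀ b ∈ B, Commute a b) : ∀ a ∈ W, ∀ b ∈ mvd x B, Commute a b := by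
  have hq := hW.prime
  have hr := hW'.prime
  haveI := Fact.mk hq
  haveI := Fact.mk hr
  have hx := I.hx
  have hWq := hW.isPGroup
  have hWr := hW'.isPGroup
  -- the closure of `B` under the normaliser of `⟨x⟩`
  set Bs := closure {c | ∃ m : G, m * x * m⁻¹ ∈ zpowers x ∧ ∃ b ∈ mvd x B, c = m * b * m⁻¹} with hBs
  have hbBs : mvd x B ≤ Bs := fun b hb =>
    Subgroup.subset_closure ⟨1, by simp, b, hb, by simp⟩
  have hmul : ∀ {m m' : G}, m * x * m⁻¹ ∈ zpowers x → m' * x * m'⁻¹ ∈ zpowers x →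
      (m * m') * x * (m * m')⁻¹ ∈ zpowers x := by
    intro m m' hm hm'
    obtain ⟨i, hi⟩ := mem_zpowers_iff.1 hm'
    rw [show m * m' * x * (m * m')⁻¹ = m * (m' * x * m'⁻¹) * m⁻¹ by group, ← hi, ← conj_zpow]
    exact zpow_mem hm i
  have hxx : x * x * x⁻¹ ∈ zpowers x := by rw [mul_inv_cancel_right]; exact mem_zpowers x
  have hstab : ∀ {m : G}, m * x * m⁻¹ ∈ zpowers x → m ∈ normalizer (Bs : Set G) := by
    intro m hm
    refine mem_normalizer_of_gen ?_
    rintro _ ⟨m', hm', b, hb, rfl⟩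
    exact Subgroup.subset_closure ⟨m * m', hmul hm hm', b, hb, by group⟩
  have hxBs : x ∈ normalizer (Bs : Set G) := hstab hxx
  have hBsW : Bs ≤ W' := by
    rw [hBs, closure_le]
    rintro _ ⟨m, hm, b, hb, rfl⟩
    exact mem_normalizer_conj (I.stab_le hrp hW' hm) (hB (mvd_le hxB hb))
  have hBsmvd : Bs ≤ mvd x Bs := by
    conv_lhs => rw [hBs]
    rw [closure_le]
    rintro _ ⟨m, hm, b, hb, rfl⟩
    rw [← mvd_mvd hrp hx.ord (hWr.to_le hB) hxB] at hb
    have h1 := mem_map_of_mem (MulAut.conj m).toMonoidHom hb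
    rw [mvd_map] at h1
    refine mvd_zpowers_le hxBs hm (mvd_mono ?_ h1)
    rintro _ ⟨c, hc, rfl⟩
    exact Subgroup.subset_closure ⟨m, hm, c, hc, rfl⟩
  -- the moved part of `A` centralises it
  have hABs : mvd x A ≤ centralizer (Bs : Set G) := by
    rw [hBs, centralizer_closure, mvd, closure_le]
    rintro _ ⟨w, hw, rfl⟩
    refine mem_centralizer_iff.2 ?_
    rintro _ ⟨m, hm, b, hb, rfl⟩
    suffices h : mvd x B ≤
        (centralizer ({w * x * w⁻¹ * x⁻¹} : Set G)).comap (MulAut.conj m).toMonoidHom from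
      mem_centralizer_singleton_iff.1 (h hb)
    rw [mvd, closure_le]
    rintro _ ⟨w', hw', rfl⟩
    obtain ⟨va, hva, hvaK, ea⟩ := exists_conj_in_pair hx hq hqp (hWq.to_le hA) hxA hw
    obtain ⟨vb, hvb, hvbK, eb⟩ := exists_conj_in_pair hx hr hrp (hWr.to_le hB) hxB hw'
    set k := w * x * w⁻¹ * x⁻¹ with hk
    set k' := w' * x * w'⁻¹ * x⁻¹ with hk'
    have hkA : k ∈ A := mvd_le hxA (cm_mem_mvd hw)
    have hk'B : k' ∈ B := mvd_le hxB (cm_mem_mvd hw')
    set H := closure ({x, (va * vb) * m} : Set G)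
    have hH : H ≠ ⊤ := hx.pair _
    have hxH : x ∈ H := Subgroup.subset_closure (by simp)
    have hgH : (va * vb) * m ∈ H := Subgroup.subset_closure (by simp)
    have hkk : k' * k ∈ H := by
      have h1 := H.mul_mem (conj_mem_of_conj_zpowers hm hxH hgH) (H.inv_mem hxH)
      have e : va * vb * x * (va * vb)⁻¹ * x⁻¹ = k' * k := by
        calc va * vb * x * (va * vb)⁻¹ * x⁻¹
            = va * (vb * x * vb⁻¹ * x⁻¹) * va⁻¹ * (va * x * va⁻¹ * x⁻¹) := by group
          _ = va * k' * va⁻¹ * k := by rw [← ea, ← eb]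
          _ = k' * k := by rw [(hAB va hva k' hk'B).eq, mul_inv_cancel_right]
      rwa [e] at h1
    have hkc : Commute k' k := (hAB k hkA k' hk'B).symm
    have hcop : (orderOf k').Coprime (orderOf k) := by
      obtain ⟨i, hi⟩ := IsPGroup.iff_orderOf.1 hWq ⟨k, hA hkA⟩
      obtain ⟨j, hj⟩ := IsPGroup.iff_orderOf.1 hWr ⟨k', hB hk'B⟩
      rw [← Subgroup.orderOf_coe] at hi hj
      rw [hi, hj]
      exact Nat.Coprime.pow _ _ ((Nat.coprime_primes hr hq).2 hqr.symm)
    have hk'H : k' ∈ H := zpowers_le.2 hkk (Grp.TwoGen.left_mem_zpowers_mul hkc hcop)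
    have hkH : k ∈ H := by
      have := H.mul_mem (H.inv_mem hk'H) hkk
      rwa [inv_mul_cancel_left] at this
    have hwH : w * x * w⁻¹ ∈ H := by
      rw [show w * x * w⁻¹ = k * x by rw [hk]; group]; exact H.mul_mem hkH hxH
    have hw'H : w' * x * w'⁻¹ ∈ H := by
      rw [show w' * x * w'⁻¹ = k' * x by rw [hk']; group]; exact H.mul_mem hk'H hxH
    have hmH : m ∈ H := by
      have hva' : va ∈ H := (closure_le H).2 (by rintro z (rfl | rfl) <;> assumption) hvaK
      have hvb' : vb ∈ H := (closure_le H).2 (by rintro z (rfl | rfl) <;> assumption) hvbK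
      have := H.mul_mem (H.inv_mem (H.mul_mem hva' hvb')) hgH
      rwa [inv_mul_cancel_left] at this
    have hk1 := mvd_le (le_normalizer_coreIn hxH)
      (cm_mem_of_pair hx hq hqp (hWq.to_le hA) hxA hw hH hxH hwH)
    have hk2 := mvd_le (le_normalizer_coreIn hxH)
      (cm_mem_of_pair hx hr hrp (hWr.to_le hB) hxB hw' hH hxH hw'H)
    refine mem_centralizer_singleton_iff.2 ?_
    show m * k' * m⁻¹ * k = k * (m * k' * m⁻¹)
    exact (commute_coreIn hq hr hqr hk1 (mem_normalizer_conj (le_normalizer_coreIn hmH) hk2)).symm.eq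
  suffices hmain : W ≤ centralizer (Bs : Set G) from fun a ha b hb =>
    (mem_centralizer_iff.1 (hmain ha) b (hbBs hb)).symm
  -- the part of `W` centralising `Bs`
  set J0 := W ⊓ centralizer (Bs : Set G) with hJ0
  set F := W ⊓ centralizer ({x} : Set G) with hF
  have hxJ0 : x ∈ normalizer (J0 : Set G) := by
    refine mem_normalizer_inf hW.mem_normalizer (mem_normalizer_iff_map_conj_eq.2 ?_)
    refine eq_of_le_of_card_ge ?_ (card_map_of_injective (MulAut.conj x).injective).ge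
    rintro _ ⟨c, hc, rfl⟩
    refine mem_centralizer_iff.2 fun b hb => ?_
    have h := mem_centralizer_iff.1 hc (x⁻¹ * b * x) (by
      have := mem_normalizer_conj (inv_mem hxBs) hb; rwa [inv_inv] at this)
    show b * (x * c * x⁻¹) = x * c * x⁻¹ * b
    calc b * (x * c * x⁻¹) = x * ((x⁻¹ * b * x) * c) * x⁻¹ := by group
      _ = _ := by rw [h]; group
  have hFstab : ∀ {f : G}, f ∈ F → f * x * f⁻¹ ∈ zpowers x := fun hf => by
    rw [mem_centralizer_singleton_iff.1 hf.2, mul_inv_cancel_right]; exact mem_zpowers x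
  have hFJ0 : F ≤ normalizer (J0 : Set G) := fun f hf =>
    mem_normalizer_inf (le_normalizer hf.1) (by
      refine mem_normalizer_iff_map_conj_eq.2
        (eq_of_le_of_card_ge ?_ (card_map_of_injective (MulAut.conj f).injective).ge)
      rintro _ ⟨c, hc, rfl⟩
      refine mem_centralizer_iff.2 fun b hb => ?_
      have h := mem_centralizer_iff.1 hc (f⁻¹ * b * f) (by
        have := mem_normalizer_conj (inv_mem (hstab (hFstab hf))) hb; rwa [inv_inv] at this)
      show b * (f * c * f⁻¹) = f * c * f⁻¹ * b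
      calc b * (f * c * f⁻¹) = f * ((f⁻¹ * b * f) * c) * f⁻¹ := by group
        _ = _ := by rw [h]; group)
  set J := J0 ⊔ F with hJ
  have hJeq : (J : Set G) = (J0 : Set G) * (F : Set G) := coe_mul_of_right_le_normalizer_left _ _ hFJ0
  suffices hWJ : W ≤ J by
    intro a ha
    rw [← I.mvd_colour hqp hW] at ha
    refine (show mvd x W ≤ J0 from ?_) ha |>.2
    rw [mvd, closure_le]
    rintro _ ⟨w, hw, rfl⟩
    have hwJ := hWJ hw
    rw [← SetLike.mem_coe, hJeq] at hwJ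
    obtain ⟨j, hj, f, hf, rfl⟩ := Set.mem_mul.1 hwJ
    have hfx : Commute f x := mem_centralizer_singleton_iff.1 hf.2
    rw [show j * f * x * (j * f)⁻¹ * x⁻¹ = j * (f * x * f⁻¹) * j⁻¹ * x⁻¹ by group, hfx.eq,
      mul_inv_cancel_right, show j * x * j⁻¹ * x⁻¹ = j * (x * j⁻¹ * x⁻¹) by group]
    exact mul_mem hj (mem_normalizer_conj hxJ0 (inv_mem hj))
  by_contra hne
  have hJW : J ≤ W := sup_le inf_le_left inf_le_left
  have hJlt : J < W := lt_of_le_of_ne hJW fun e => hne e.ge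
  set N := normalizer (J : Set G)
  have hlt := Grp.lt_inf_normalizer hWq.isNilpotent hJlt
  have hxJ : x ∈ N := by
    refine mem_normalizer_iff_map_conj_eq.2 ?_
    rw [hJ, Subgroup.map_sup, mem_normalizer_iff_map_conj_eq.1 hxJ0, mem_normalizer_iff_map_conj_eq.1
      (mem_normalizer_inf hW.mem_normalizer (le_normalizer (mem_centralizer_singleton_iff.2 rfl)) :
        x ∈ normalizer (F : Set G))]
  have hJBs : J ≤ normalizer (Bs : Set G) := sup_le
    (inf_le_right.trans (fun c hc => mem_normalizer_iff_map_conj_eq.2 (by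
      ext b
      constructor
      · rintro ⟨b', hb', rfl⟩
        show c * b' * c⁻¹ ∈ Bs
        rwa [← mem_centralizer_iff.1 hc b' hb', mul_inv_cancel_right]
      · exact fun hb => ⟨b, hb, by
          show c * b * c⁻¹ = b
          rw [← mem_centralizer_iff.1 hc b hb, mul_inv_cancel_right]⟩)))
    (fun f hf => hstab (hFstab hf))
  have hnorm : W ⊓ N ≤ normalizer (J0 : Set G) := by
    rintro h ⟨hhW, hhN⟩
    set y := h * x * h⁻¹ with hy
    have hyJ : y ∈ N := mul_mem (mul_mem hhN hxJ) (inv_mem hhN)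
    have hyW : y ∈ normalizer (W : Set G) :=
      mul_mem (mul_mem (le_normalizer hhW) hW.mem_normalizer) (inv_mem (le_normalizer hhW))
    have hyJ0 : y ∈ normalizer (J0 : Set G) := by
      refine mem_normalizer_iff_map_conj_eq.2
        (eq_of_le_of_card_ge ?_ (card_map_of_injective (MulAut.conj y).injective).ge)
      rintro _ ⟨j, hj, rfl⟩
      show y * j * y⁻¹ ∈ J0
      set ω := j⁻¹ * y * j⁻¹⁻¹ * y⁻¹ with hω
      suffices hωJ : ω ∈ J0 by
        rw [show y * j * y⁻¹ = j * ω by rw [hω]; group]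
        exact mul_mem hj hωJ
      have hji : j⁻¹ ∈ J0 := inv_mem hj
      refine ⟨W.mul_mem (W.inv_mem hj.1) (mem_normalizer_conj hyW (W.inv_mem (W.inv_mem hj.1))) |>
        fun e => by rwa [show j⁻¹ * (y * j⁻¹⁻¹ * y⁻¹) = ω by rw [hω]; group] at e, ?_⟩
      refine mem_centralizer_iff.2 fun l hl => ?_
      have hjl : Commute j⁻¹ l := (mem_centralizer_iff.1 hji.2 l hl).symm
      have hcop : (orderOf j⁻¹).Coprime (orderOf l) := by
        obtain ⟨i, hi⟩ := IsPGroup.iff_orderOf.1 hWq ⟨j⁻¹, inv_mem hj.1⟩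
        obtain ⟨i', hi'⟩ := IsPGroup.iff_orderOf.1 hWr ⟨l, hBsW hl⟩
        rw [← Subgroup.orderOf_coe] at hi hi'
        rw [hi, hi']
        exact Nat.Coprime.pow _ _ ((Nat.coprime_primes hq hr).2 hqr)
      set H := closure ({y, j⁻¹ * l} : Set G)
      have hy' : Hyp p y := I.hyp h
      have hjlH : j⁻¹ * l ∈ H := Subgroup.subset_closure (by simp)
      have hjH : j⁻¹ ∈ H := zpowers_le.2 hjlH (Grp.TwoGen.left_mem_zpowers_mul hjl hcop)
      have hlH : l ∈ H := by
        have := H.mul_mem (H.inv_mem hjH) hjlH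
        rwa [inv_mul_cancel_left] at this
      have hyH : y ∈ H := Subgroup.subset_closure (by simp)
      have hωH : ω ∈ coreIn q H := mvd_le (le_normalizer_coreIn hyH)
        (cm_mem_of_pair hy' hq hqp hWq hyW (inv_mem hj.1) (hy'.pair _) hyH
          (H.mul_mem (H.mul_mem hjH hyH) (H.inv_mem hjH)))
      have hωJ : ω ∈ J := by
        rw [hω, show j⁻¹ * y * j⁻¹⁻¹ * y⁻¹ = j⁻¹ * (y * j⁻¹⁻¹ * y⁻¹) by group]
        exact mul_mem (mem_sup_left hji) (mem_normalizer_conj hyJ (inv_mem (mem_sup_left hji)))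
      have h1 : ω * l * ω⁻¹ * l⁻¹ ∈ W' ⊓ coreIn q H := by
        refine ⟨W'.mul_mem (hBsW (mem_normalizer_conj (hJBs hωJ) hl)) (W'.inv_mem (hBsW hl)), ?_⟩
        rw [show ω * l * ω⁻¹ * l⁻¹ = ω * (l * ω⁻¹ * l⁻¹) by group]
        exact Subgroup.mul_mem _ hωH
          (mem_normalizer_conj (le_normalizer_coreIn hlH) (Subgroup.inv_mem _ hωH))
      rw [disjoint_of_pgroups hr hq hqr.symm hWr coreIn_isPGroup, mem_bot] at h1
      exact (commute_of_cm h1).symm.eq
    obtain ⟨u, huW, huK, eu⟩ := exists_conj_in_pair hx hq hqp hWq hW.mem_normalizer hhW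
    have huN : u ∈ normalizer (J0 : Set G) :=
      (closure_le (normalizer (J0 : Set G))).2 (by rintro z (rfl | rfl) <;> assumption) huK
    have hfF : u⁻¹ * h ∈ F := by
      refine ⟨W.mul_mem (W.inv_mem huW) hhW, mem_centralizer_singleton_iff.2 ?_⟩
      calc u⁻¹ * h * x = u⁻¹ * (h * x * h⁻¹) * h := by group
        _ = x * (u⁻¹ * h) := by rw [eu]; group
    rw [show h = u * (u⁻¹ * h) by group]
    exact mul_mem huN (hFJ0 hfF)
  -- in the normaliser of `J0`
  have hJ0ne : J0 ≠ ⊥ := fun e => hAne (le_bot_iff.1 (e ▸ le_inf ((mvd_le hxA).trans hA) hABs))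
  set N1 := normalizer (J0 : Set G)
  have hN1 : N1 ≠ ⊤ := I.normalizer_ne_top' (hWq.to_le inf_le_left) hJ0ne
  have hBN1 : Bs ≤ N1 := fun b hb => mem_normalizer_iff_map_conj_eq.2 (by
    ext c
    constructor
    · rintro ⟨c', hc', rfl⟩
      show b * c' * b⁻¹ ∈ J0
      rwa [mem_centralizer_iff.1 hc'.2 b hb, mul_inv_cancel_right]
    · exact fun hc => ⟨c, hc, by
        show b * c * b⁻¹ = c
        rw [mem_centralizer_iff.1 hc.2 b hb, mul_inv_cancel_right]⟩)
  have hxWN : x ∈ normalizer ((W ⊓ N : Subgroup G) : Set G) :=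
    mem_normalizer_inf hW.mem_normalizer (le_normalizer hxJ)
  have hcore : mvd x (W ⊓ N) ≤ J0 := by
    refine le_inf ((mvd_le hxWN).trans inf_le_left) fun a ha => mem_centralizer_iff.2 fun b hb => ?_
    have h1 := mvd_le_coreIn hx hN1 hxJ0 hq hqp (hWq.to_le inf_le_left) hnorm hxWN ha
    have h2 := mvd_le_coreIn hx hN1 hxJ0 hr hrp (hWr.to_le hBsW) hBN1 hxBs (hBsmvd hb)
    exact (commute_coreIn hq hr hqr h1 h2).symm.eq
  refine hlt.not_ge fun w hw => ?_
  obtain ⟨r', hr', c, hc, hcx, rfl⟩ :=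
    exists_mvd_mul_fixed hqp hx.ord (hWq.to_le inf_le_left) hxWN hw
  exact mul_mem (mem_sup_left (hcore hr')) (mem_sup_right ⟨hc.1, mem_centralizer_singleton_iff.2 hcx.eq⟩)

theorem Isolated.rel_of_linked (I : Isolated p x) (hqp : q ≠ p) (hrp : r ≠ p)
    (hW : IsColour q x W) (hW' : IsColour r x W') (h : Linked x W W') : Rel q r W W' := by
  obtain ⟨H, hH, hxH, ⟨a, ha, ham⟩, b, hb, hbm⟩ := h
  have hq := hW.prime
  have hr := hW'.prime
  have hx := I.hx
  have hxC : ∀ {s : ℕ}, x ∈ normalizer (coreIn s H : Set G) := fun {s} => le_normalizer_coreIn hxH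
  have key : ∀ {s : ℕ} {V : Subgroup G}, IsColour s x V → s ≠ p → ∀ {c : G}, c ∈ V ⊓ H →
      ¬ Commute c x → mvd x (V ⊓ H) ≤ mvd x (coreIn s H) ∧ mvd x (V ⊓ H) ≠ ⊥ ∧
        x ∈ normalizer ((V ⊓ H : Subgroup G) : Set G) ∧ mvd x (coreIn s H) ≤ V := by
    intro s V hV hsp c hc hcm
    haveI := Fact.mk hV.prime
    have hxV : x ∈ normalizer ((V ⊓ H : Subgroup G) : Set G) :=
      mem_normalizer_inf hV.mem_normalizer (le_normalizer hxH)
    have h1 := mvd_le_mvd_coreIn hx hH hxH hV.prime hsp (hV.isPGroup.to_le inf_le_left) inf_le_right hxV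
    have h2 : mvd x (V ⊓ H) ≠ ⊥ := mvd_ne_bot hc hcm
    obtain ⟨d, hd, hdm⟩ := I.exists_moved_cm hV.prime hsp (hV.isPGroup.to_le inf_le_left) hxV h2
    exact ⟨h1, h2, hxV, I.absorb hsp hV coreIn_isPGroup hxC (h1 hd) ((mvd_le hxV hd).1) hdm⟩
  obtain ⟨hA1, hA2, hxA, hA3⟩ := key hW hqp ha ham
  obtain ⟨hB1, hB2, hxB, hB3⟩ := key hW' hrp hb hbm
  haveI := Fact.mk hq
  haveI := Fact.mk hr
  constructor
  · rintro rfl
    obtain ⟨d, hd, hdm⟩ := I.exists_moved_cm hq hqp (hW'.isPGroup.to_le inf_le_left) hxB hB2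
    have hdW : d ∈ W := hA3 (hB1 hd)
    have hdW' : d ∈ W' := (mvd_le hxB hd).1
    refine le_antisymm ?_ ?_
    · rw [← I.mvd_colour hqp hW]
      exact I.absorb hqp hW' hW.isPGroup hW.mem_normalizer (by rw [I.mvd_colour hqp hW]; exact hdW) hdW' hdm
    · rw [← I.mvd_colour hqp hW']
      exact I.absorb hqp hW hW'.isPGroup hW'.mem_normalizer
        (by rw [I.mvd_colour hqp hW']; exact hdW') hdW hdm
  · intro hqr
    set A := mvd x (W ⊓ H)
    set B := mvd x (W' ⊓ H)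
    have hAB : ∀ a ∈ A, ∀ b ∈ B, Commute a b := fun a ha b hb =>
      commute_coreIn hq hr hqr (mvd_le hxC (hA1 ha)) (mvd_le hxC (hB1 hb))
    have e1 : mvd x A = A := mvd_mvd hqp hx.ord (hW.isPGroup.to_le inf_le_left) hxA
    have e2 : mvd x B = B := mvd_mvd hrp hx.ord (hW'.isPGroup.to_le inf_le_left) hxB
    have h1 := I.half hqp hrp hqr hW hW' ((mvd_le hxA).trans inf_le_left) (mem_normalizer_mvd hxA)
      (by rwa [e1]) ((mvd_le hxB).trans inf_le_left) (mem_normalizer_mvd hxB) (by rwa [e2]) hAB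
    rw [e2] at h1
    have h2 := I.half hrp hqp hqr.symm hW' hW ((mvd_le hxB).trans inf_le_left) (mem_normalizer_mvd hxB)
      (by rwa [e2]) le_rfl hW.mem_normalizer (mvd_ne_bot (ha.1 : a ∈ W) ham)
      (fun b hb a ha => (h1 a ha b hb).symm)
    rw [I.mvd_colour hqp hW] at h2
    exact fun a ha b hb => (h2 b hb a ha).symm

theorem Rel.symm (h : Rel q r W W') : Rel r q W' W :=
  ⟨fun e => (h.1 e.symm).symm, fun e a ha b hb => (h.2 (Ne.symm e) b hb a ha).symm⟩

theorem Rel.le_normalizer (h : Rel q r W W') : W ≤ normalizer (W' : Set G) := by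
  by_cases e : q = r
  · rw [h.1 e]; exact Subgroup.le_normalizer
  intro a ha
  refine mem_normalizer_iff_map_conj_eq.2 ?_
  ext b
  constructor
  · rintro ⟨b', hb', rfl⟩
    show a * b' * a⁻¹ ∈ W'
    rwa [(h.2 e a ha b' hb').eq, mul_inv_cancel_right]
  · exact fun hb => ⟨b, hb, by
      show a * b * a⁻¹ = b
      rw [(h.2 e a ha b hb).eq, mul_inv_cancel_right]⟩

theorem Isolated.rel_trans (I : Isolated p x) {s : ℕ} {W'' : Subgroup G} (hqp : q ≠ p) (hrp : r ≠ p)
    (hsp : s ≠ p) (hW : IsColour q x W) (hW' : IsColour r x W') (hW'' : IsColour s x W'')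
    (h : Rel q r W W') (h' : Rel r s W' W'') : Rel q s W W'' := by
  haveI := Fact.mk hW'.prime
  obtain ⟨a, ha, ham⟩ := I.colour_moved hqp hW
  obtain ⟨b, hb, hbm⟩ := I.colour_moved hsp hW''
  obtain ⟨c, hc, hcm⟩ := I.colour_moved hrp hW'
  exact I.rel_of_linked hqp hsp hW hW'' ⟨normalizer (W' : Set G),
    I.normalizer_ne_top' hW'.isPGroup (fun e => hcm (by
      rw [e, mem_bot] at hc; rw [hc]; exact Commute.one_left x)),
    hW'.mem_normalizer, ⟨a, ⟨ha, h.le_normalizer ha⟩, ham⟩, b, ⟨hb, h'.symm.le_normalizer hb⟩, hbm⟩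

end Cfsg.Agent.Fus.F2Pairs
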