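import Cfsg.Agent.Lib.Fus.F2Pairs.Classes
import Cfsg.Agent.Lib.Fus.ZStarCenter
import Cfsg.Agent.Lib.Grp.FT.Final
import Cfsg.Agent.Lib.Grp.FT.NoMinSimple
import Cfsg.Agent.Lib.Grp.Frattini

/-!
The moved q-parts of the conjugates in a p-group generate a q-group; with the pair decomposition
and the theorem of Baer and Suzuki this contradicts the existence of a smallest counterexample.
-/

set_option autoImplicit false
set_option linter.style.haveILetI false
set_option linter.unusedSectionVars false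

namespace Cfsg.Agent.Fus.F2Pairs

open Subgroup

universe u

variable {G : Type u} [Group G] [Finite G] {p q r : ℕ} [hp : Fact p.Prime] {x : G}

theorem Setting.hx (S : Setting p x) : Hyp p x := by simpa using S.hyp 1

theorem Setting.ne_one (S : Setting p x) : x ≠ 1 := fun e =>
  hp.out.ne_one (by rw [← S.hx.ord, e, orderOf_one])

theorem Setting.pCore_eq_bot (S : Setting p x) (t : ℕ) [Fact t.Prime] : Cfsg.pCore t G = ⊥ := by
  haveI := (Grp.pCore_isPGroup (p := t) (G := G)).isNilpotent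
  exact S.noSolv _ Grp.pCore_isNormal inferInstance

/-- With no commuting conjugate outside `⟨x⟩` the prime is odd. -/
theorem Setting.odd_of_iso (S : Setting p x)
    (iso : ∀ g : G, Commute (g * x * g⁻¹) x → g * x * g⁻¹ ∈ zpowers x) : p ≠ 2 := by
  rintro rfl
  have hx := S.hx
  obtain ⟨T, hT⟩ := (isPGroup_zpowers_of_ord hx.ord).exists_le_sylow
  have hxT : x ∈ (T : Subgroup G) := hT (mem_zpowers x)
  have hiso : Fus.IsoElt T x := by
    refine ⟨hxT, fun g hg => ?_⟩
    have hmem := mem_zpowers_of_iso hx iso (T.isPGroup'.to_le ((closure_le _).2 (by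
      rintro z (rfl | rfl)
      · exact hxT
      · exact hg)))
    obtain ⟨i, hi⟩ := mem_zpowers_iff.1 hmem
    have hne : g * x * g⁻¹ ≠ 1 := fun e => S.ne_one (conj_eq_one_iff.1 e)
    rw [← hi, ← zpow_mod_orderOf, hx.ord] at hne ⊢
    rcases Int.emod_two_eq_zero_or_one i with h | h
    · exact absurd (by rw [show ((2 : ℕ) : ℤ) = 2 from rfl, h, zpow_zero]) hne
    · rw [show ((2 : ℕ) : ℤ) = 2 from rfl, h, zpow_one]
  have hcore : Cfsg.pPrimeCore 2 G = ⊥ :=
    S.noSolv _ Grp.pPrimeCore_isNormal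
      (Grp.FT.odd_order_of.{u} Grp.FT.noMinSimpleOdd _
        (Nat.coprime_two_right.1 Grp.pPrimeCore_coprime))
  have htop : centralizer (normalClosure ({x} : Set G) : Set G) = ⊤ := by
    rw [centralizer_eq_top_iff_subset, SetLike.coe_subset_coe]
    refine normalClosure_le_normal (Set.singleton_subset_iff.2 (Subgroup.mem_center_iff.2 fun g => ?_))
    have h := Fus.IsoElt.commutator_mem _ G rfl T x hiso g
    rw [hcore, mem_bot] at h
    exact (commute_of_cm h).symm.eq
  exact S.ne_one (mem_bot.1 ((S.cent.symm.trans htop).ge (mem_top x)))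

/-- The moved q-parts at `x` form a q-group, and those for two primes commute. -/
theorem Setting.wq_spec (S : Setting p x) (hq : q.Prime) (hqp : q ≠ p) :
    IsPGroup q (wq q x) ∧
      ∀ r : ℕ, r.Prime → r ≠ p → q ≠ r → ∀ a ∈ wq q x, ∀ b ∈ wq r x, Commute a b := by
  by_cases h : ∃ g : G, Commute (g * x * g⁻¹) x ∧ g * x * g⁻¹ ∉ zpowers x
  · obtain ⟨g, hc, ho⟩ := h
    have P : Plane p x (g * x * g⁻¹) := ⟨S.hx.ord, (S.hyp g).ord, hc.symm, ho⟩
    exact ⟨S.caseOne_group S.hx S.hyp (S.hyp g) P hq hqp,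
      fun r hr hrp hqr => S.caseOne_comm S.hx S.hyp P hq hqp hr hrp hqr⟩
  push Not at h
  have I : Isolated p x := ⟨S, S.odd_of_iso h, h⟩
  exact ⟨I.wq_isPGroup hq hqp, fun r hr hrp hqr => I.wq_commute hq hqp hr hrp hqr⟩

theorem Setting.wq_group (S : Setting p x) (hq : q.Prime) (hqp : q ≠ p) (g : G) :
    IsPGroup q (wq q (g * x * g⁻¹)) := by
  rw [← wq_map]; exact (S.wq_spec hq hqp).1.map _

theorem Setting.wq_comm (S : Setting p x) (hq : q.Prime) (hqp : q ≠ p) (hr : r.Prime) (hrp : r ≠ p)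
    (hqr : q ≠ r) (g : G) : wq q (g * x * g⁻¹) ≤ centralizer (wq r (g * x * g⁻¹) : Set G) := by
  rw [← wq_map, ← wq_map]
  rintro _ ⟨a, ha, rfl⟩
  refine mem_centralizer_iff.2 ?_
  rintro _ ⟨b, hb, rfl⟩
  exact (((S.wq_spec hq hqp).2 r hr hrp hqr a ha b hb).map (MulAut.conj g).toMonoidHom).symm.eq

/-- The join of the moved parts at the elements of a set. -/
def wqs (q : ℕ) (A : Set G) : Subgroup G := ⨆ a ∈ A, wq q a

/-- The conjugates of `x` in `D`. -/
def cls (x : G) (D : Subgroup G) : Set G := {e | e ∈ D ∧ ∃ g : G, e = g * x * g⁻¹}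

/-- The conjugates of `e` under `D`. -/
def orb (D : Subgroup G) (e : G) : Set G := {a | ∃ d ∈ D, a = d * e * d⁻¹}

theorem le_wqs {A : Set G} {a : G} (ha : a ∈ A) : wq q a ≤ wqs q A :=
  le_iSup₂_of_le (f := fun a (_ : a ∈ A) => wq q a) a ha le_rfl

theorem wqs_mono {A B : Set G} (h : A ⊆ B) : wqs q A ≤ wqs q B :=
  iSup₂_le fun _ ha => le_wqs (h ha)

theorem mem_normalizer_wqs {A : Set G} {m : G} (h : ∀ a ∈ A, m * a * m⁻¹ ∈ A) :
    m ∈ normalizer (wqs q A : Set G) := by
  rw [mem_normalizer_iff_map_conj_eq]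
  refine eq_of_le_of_card_ge ?_ (card_map_of_injective (MulAut.conj m).injective).ge
  rw [wqs]
  simp only [Subgroup.map_iSup]
  exact iSup₂_le fun a ha => (wq_map a m).le.trans (le_wqs (h a ha))

theorem mem_orb_self {D : Subgroup G} {e : G} : e ∈ orb D e := ⟨1, one_mem _, by simp⟩

theorem conj_mem_orb {D : Subgroup G} {e d a : G} (hd : d ∈ D) (ha : a ∈ orb D e) :
    d * a * d⁻¹ ∈ orb D e := by
  obtain ⟨d', hd', rfl⟩ := ha
  exact ⟨d * d', mul_mem hd hd', by group⟩

theorem le_normalizer_orb {D : Subgroup G} {e : G} : D ≤ normalizer (closure (orb D e) : Set G) :=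
  fun _ hd => mem_normalizer_of_gen fun _ ha => Subgroup.subset_closure (conj_mem_orb hd ha)

theorem orb_subset_cls {D : Subgroup G} {e : G} (he : e ∈ cls x D) :
    orb D e ⊆ cls x (closure (orb D e)) := by
  intro a ha
  refine ⟨Subgroup.subset_closure ha, ?_⟩
  obtain ⟨d, hd, rfl⟩ := ha
  obtain ⟨g, rfl⟩ := he.2
  exact ⟨d * g, by group⟩

theorem orb_le {D M : Subgroup G} {e : G} (hM : D ≤ normalizer (M : Set G)) (he : e ∈ M) :
    closure (orb D e) ≤ M := by
  rw [closure_le]
  rintro _ ⟨d, hd, rfl⟩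
  exact mem_normalizer_conj (hM hd) he

/-- A proper subgroup of a p-group lies in a proper normal one. -/
theorem exists_normal_above {D X : Subgroup G} (hD : IsPGroup p D) (hX : X ≤ D) (hne : X ≠ D) :
    ∃ M, X ≤ M ∧ M < D ∧ D ≤ normalizer (M : Set G) := by
  haveI := hD.isNilpotent
  obtain ⟨M, hM, hXM⟩ := (eq_top_or_exists_le_coatom (X.subgroupOf D)).resolve_left
    fun e => hne (le_antisymm hX (subgroupOf_eq_top.1 e))
  haveI hMn : M.Normal :=
    NormalizerCondition.normal_of_coatom M Group.normalizerCondition_of_isNilpotent hM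
  refine ⟨M.map D.subtype, fun a ha => ⟨⟨a, hX ha⟩, hXM (mem_subgroupOf.2 ha), rfl⟩,
    lt_of_le_of_ne (map_subtype_le M) fun e => hM.1 (map_injective D.subtype_injective ?_), ?_⟩
  · rw [e, ← MonoidHom.range_eq_map, range_subtype]
  · intro d hd
    refine mem_normalizer_iff_map_conj_eq.2
      (eq_of_le_of_card_ge ?_ (card_map_of_injective (MulAut.conj d).injective).ge)
    rintro _ ⟨_, ⟨z, hz, rfl⟩, rfl⟩
    exact ⟨⟨d, hd⟩ * z * ⟨d, hd⟩⁻¹, hMn.conj_mem z hz _, rfl⟩

theorem exists_central_ord {D N : Subgroup G} (hD : IsPGroup p D) (hN : N ≤ D)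
    (hn : D ≤ normalizer (N : Set G)) (hne : N ≠ ⊥) :
    ∃ u ∈ N, orderOf u = p ∧ ∀ d ∈ D, Commute d u := by
  haveI := hD.isNilpotent
  haveI : (N.subgroupOf D).Normal := normal_subgroupOf_of_le_normalizer hn
  set Z := N.subgroupOf D ⊓ center D
  have hZ : Z ≠ ⊥ := Grp.inf_center_ne_bot _ fun e => hne (le_bot_iff.1 fun a ha => by
    have := congrArg Subtype.val (mem_bot.1 (e.le (mem_subgroupOf.2 ha : (⟨a, hN ha⟩ : D) ∈ _)))
    exact mem_bot.2 this)
  obtain ⟨k, hk⟩ := IsPGroup.iff_card.1 (hD.to_subgroup Z)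
  have hpd : p ∣ Nat.card Z := by
    rcases k with _ | k
    · exact absurd (eq_bot_of_card_eq Z (by rw [hk, pow_zero])) hZ
    · exact hk ▸ dvd_pow_self p k.succ_ne_zero
  obtain ⟨⟨⟨u, huD⟩, hu⟩, hord⟩ := exists_prime_orderOf_dvd_card' p hpd
  refine ⟨u, hu.1, ?_, fun d hd => ?_⟩
  · rw [← hord, ← orderOf_coe, ← orderOf_coe]
  · exact congrArg Subtype.val (Subgroup.mem_center_iff.1 hu.2 ⟨d, hd⟩)

/-- Two conjugates generating `D`: a moved part at the first lies in a core of a proper overgroup. -/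
theorem Setting.pair_step (S : Setting p x) (hq : q.Prime) (hqp : q ≠ p) {D : Subgroup G}
    (hD : IsPGroup p D) {e f u : G} (he : e ∈ cls x D) (hf : f ∈ cls x D)
    (hgen : ∀ M : Subgroup G, M < D → D ≤ normalizer (M : Set G) → e ∈ M → f ∈ M → False)
    (hu : u ∈ closure (orb D f)) (hud : ∀ d ∈ D, Commute d u) (P : Plane p e u) {c w : G}
    (hc : c ∈ closure ({e, u} : Set G)) (hce : c ∉ zpowers e)
    (hw : w ∈ coreIn q (centralizer ({c} : Set G))) :
    ∃ H : Subgroup G, H ≠ ⊤ ∧ D ≤ H ∧ w * e * w⁻¹ * e⁻¹ ∈ mvd e (coreIn q H) := by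
  have hc1 : c ≠ 1 := fun h => hce (h ▸ one_mem _)
  by_cases hcu : c ∈ zpowers u
  · refine ⟨centralizer ({c} : Set G), S.centralizer_ne_top hc1, fun d hd => ?_, cm_mem_mvd hw⟩
    obtain ⟨i, rfl⟩ := mem_zpowers_iff.1 hcu
    exact mem_centralizer_singleton_iff.2 ((hud d hd).zpow_right i).eq
  obtain ⟨a, rfl⟩ := he.2
  obtain ⟨b, rfl⟩ := hf.2
  set e := a * x * a⁻¹
  set f := b * x * b⁻¹
  have hDf : closure (orb D f) ≤ D := (closure_le _).2 (by
    rintro _ ⟨d, hd, rfl⟩; exact mul_mem (mul_mem hd hf.1) (inv_mem hd))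
  have hcD : c ∈ D := (closure_le _).2 (by
    rintro z (rfl | rfl)
    · exact he.1
    · exact hDf hu) hc
  have hfc : closure ({f, c} : Set G) = D := by
    by_contra hne
    obtain ⟨M, hXM, hMD, hMn⟩ := exists_normal_above hD
      ((closure_le _).2 (by rintro z (rfl | rfl); exacts [hf.1, hcD])) hne
    have hfM : f ∈ M := hXM (Subgroup.subset_closure (by simp))
    have huM : u ∈ M := orb_le hMn hfM hu
    refine hgen M hMD hMn ?_ hfM
    have h : closure ({c, u} : Set G) = closure ({e, u} : Set G) :=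
      P.closure_eq hc (Subgroup.subset_closure (by simp)) hc1 fun h =>
        hcu (mem_zpowers_symm (fun e1 => hp.out.ne_one (by rw [← P.ord', e1, orderOf_one]))
          (P.orderOf_mem hc hc1) h)
    refine (closure_le _).2 ?_ (h.ge (Subgroup.subset_closure (by simp : e ∈ ({e, u} : Set G))))
    rintro z (rfl | rfl)
    · exact hXM (Subgroup.subset_closure (by simp))
    · exact huM
  set k := w * e * w⁻¹ * e⁻¹
  have heQ : e ∈ normalizer (coreIn q (centralizer ({c} : Set G)) : Set G) :=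
    le_normalizer_coreIn (mem_centralizer_singleton_iff.2 (P.commute_mem hc).1.symm.eq)
  have hkQ : k ∈ coreIn q (centralizer ({c} : Set G)) := mvd_le heQ (cm_mem_mvd hw)
  have hck : Commute c k := (mem_centralizer_singleton_iff.1 (coreIn_le hkQ)).symm
  have hcop : (orderOf c).Coprime (orderOf k) := by
    haveI := Fact.mk hq
    have h := coprime_card (p := p) hq hqp (isPGroup_zpowers_of_ord (P.orderOf_mem hc hc1))
      (coreIn_isPGroup : IsPGroup q (coreIn q (centralizer ({c} : Set G))))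
    rw [Nat.card_zpowers] at h
    exact h.coprime_dvd_right (orderOf_dvd_natCard _ hkQ)
  set H := closure ({f, c * k} : Set G) with hH
  have hckH : c * k ∈ H := Subgroup.subset_closure (by simp)
  have hcH : c ∈ H := zpowers_le.2 hckH (Grp.TwoGen.left_mem_zpowers_mul hck hcop)
  have hkH : k ∈ H := by
    have := H.mul_mem (H.inv_mem hcH) hckH
    rwa [inv_mul_cancel_left] at this
  have hDH : D ≤ H := by
    rw [← hfc, closure_le]
    rintro z (rfl | rfl)
    · exact Subgroup.subset_closure (by simp)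
    · exact hcH
  refine ⟨H, (S.hyp b).pair _, hDH, cm_mem_of_pair (S.hyp a) hq hqp coreIn_isPGroup heQ hw
    ((S.hyp b).pair _) (hDH he.1) ?_⟩
  rw [show w * e * w⁻¹ = k * e by simp only [k]; group]
  exact H.mul_mem hkH (hDH he.1)

/-- The moved parts at the conjugates of `x` in a p-group form commuting q-groups. -/
theorem Setting.nil_spec (S : Setting p x) : ∀ (n : ℕ) (D : Subgroup G), Nat.card D = n →
    IsPGroup p D → ∀ q : ℕ, q.Prime → q ≠ p → IsPGroup q (wqs q (cls x D)) ∧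
      ∀ r : ℕ, r.Prime → r ≠ p → q ≠ r → wqs q (cls x D) ≤ centralizer (wqs r (cls x D) : Set G) := by
  intro n
  induction n using Nat.strong_induction_on with
  | _ n ih =>
  intro D hn hD q hq hqp
  have hsmall : ∀ D' : Subgroup G, D' < D → ∀ t : ℕ, t.Prime → t ≠ p →
      IsPGroup t (wqs t (cls x D')) ∧ ∀ r : ℕ, r.Prime → r ≠ p → t ≠ r →
        wqs t (cls x D') ≤ centralizer (wqs r (cls x D') : Set G) := fun D' hlt t ht htp =>
    ih _ (hn ▸ lt_of_le_of_ne (card_le_of_le hlt.le) fun e => hlt.ne (eq_of_le_of_card_ge hlt.le e.ge))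
      D' rfl (hD.to_le hlt.le) t ht htp
  by_cases hgenD : closure (cls x D) = D
  swap
  · have hle : closure (cls x D) ≤ D := (closure_le _).2 fun a ha => ha.1
    have e : cls x (closure (cls x D)) = cls x D := Set.ext fun a =>
      ⟨fun ha => ⟨hle ha.1, ha.2⟩, fun ha => ⟨Subgroup.subset_closure ha, ha.2⟩⟩
    have := hsmall _ (lt_of_le_of_ne hle hgenD) q hq hqp
    rw [e] at this
    exact this
  by_cases hcyc : ∃ e ∈ cls x D, closure (orb D e) = D
  · obtain ⟨e, he, hor⟩ := hcyc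
    have hz : zpowers e = D := by
      by_contra hne
      obtain ⟨M, hXM, hMD, hMn⟩ := exists_normal_above hD (zpowers_le.2 he.1) hne
      exact hMD.not_ge (hor.ge.trans (orb_le hMn (hXM (mem_zpowers e))))
    obtain ⟨g, rfl⟩ := he.2
    have hall : ∀ t : ℕ, wqs t (cls x D) = wq t (g * x * g⁻¹) := fun t => by
      refine le_antisymm (iSup₂_le fun a ha => ?_) (le_wqs he)
      obtain ⟨k, rfl⟩ := ha.2
      exact (wq_eq_of_zpowers (zpowers_eq_of_mem (S.hyp k).ord (S.hyp g).ord (hz.ge ha.1))).le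
    refine ⟨hall q ▸ S.wq_group hq hqp g, fun r hr hrp hqr => ?_⟩
    rw [hall q, hall r]
    exact S.wq_comm hq hqp hr hrp hqr g
  push Not at hcyc
  haveI := Fact.mk hq
  have horbD : ∀ {e : G}, e ∈ cls x D → closure (orb D e) ≤ D := fun he => (closure_le _).2 (by
    rintro _ ⟨d, hd, rfl⟩; exact mul_mem (mul_mem hd he.1) (inv_mem hd))
  have horblt : ∀ {e : G}, e ∈ cls x D → closure (orb D e) < D := fun he =>
    lt_of_le_of_ne (horbD he) (hcyc _ he)
  have hLle : ∀ {t : ℕ} {e : G}, e ∈ cls x D → wqs t (orb D e) ≤ wqs t (cls x (closure (orb D e))) :=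
    fun he => wqs_mono (orb_subset_cls he)
  have hLp : ∀ {t : ℕ} {e : G}, t.Prime → t ≠ p → e ∈ cls x D → IsPGroup t (wqs t (orb D e)) :=
    fun ht htp he => (hsmall _ (horblt he) _ ht htp).1.to_le (hLle he)
  have hLD : ∀ {t : ℕ} {e : G}, D ≤ normalizer (wqs t (orb D e) : Set G) := by
    intro t e d hd
    exact mem_normalizer_wqs fun a ha => conj_mem_orb hd ha
  -- the main step on two orbits
  have hkey : ∀ {e f : G}, e ∈ cls x D → f ∈ cls x D →
      closure (orb D e) ⊔ closure (orb D f) = D → ∀ {t r : ℕ}, t.Prime → t ≠ p → r.Prime → r ≠ p →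
      ∀ k ∈ wq t e, k ≠ 1 → wqs r (orb D f) ≠ ⊥ →
      (t ≠ r → k ∈ centralizer (wqs r (orb D f) : Set G)) ∧
        (t = r → ∃ Y, InvQ t D Y ∧ wq t e ⊓ Y ≠ ⊥ ∧ wqs t (orb D f) ⊓ Y ≠ ⊥) := by
    intro e f he hf hsup
    have hgen : ∀ M : Subgroup G, M < D → D ≤ normalizer (M : Set G) → e ∈ M → f ∈ M → False :=
      fun M hM hMn heM hfM => hM.not_ge (hsup.ge.trans (sup_le (orb_le hMn heM) (orb_le hMn hfM)))
    obtain ⟨b, hb⟩ := hf.2
    have hf1 : closure (orb D f) ≠ ⊥ := fun h => S.ne_one (conj_eq_one_iff.1 (hb ▸ mem_bot.1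
      (h ▸ Subgroup.subset_closure mem_orb_self)))
    obtain ⟨u, hu, huo, hud⟩ := exists_central_ord hD (horbD hf) le_normalizer_orb hf1
    obtain ⟨a, ha⟩ := he.2
    have hey : Hyp p e := ha ▸ S.hyp a
    have hue : u ∉ zpowers e := fun h => by
      have hu1 : u ≠ 1 := fun h1 => hp.out.ne_one (by rw [← huo, h1, orderOf_one])
      have he' : e ∈ closure (orb D f) := zpowers_le.2 hu (mem_zpowers_symm hu1 hey.ord h)
      refine hcyc f hf (le_antisymm (horbD hf) (hsup.ge.trans (sup_le ?_ le_rfl)))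
      exact orb_le le_normalizer_orb he'
    have P : Plane p e u := ⟨hey.ord, huo, hud e he.1, hue⟩
    intro t r ht htp hr hrp k hk hk1 hL
    haveI := Fact.mk ht
    haveI := Fact.mk hr
    set L := wqs r (orb D f) with hLdef
    -- a core of a proper overgroup of `D` normalises `L`
    have hnorm : ∀ H : Subgroup G, D ≤ H → coreIn t H ≤ normalizer (L : Set G) := by
      intro H hDH y0 hy0
      rw [mem_normalizer_iff_map_conj_eq, hLdef, wqs]
      simp only [Subgroup.map_iSup]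
      refine iSup_congr fun a => iSup_congr fun ha => ?_
      rw [← mem_normalizer_iff_map_conj_eq]
      obtain ⟨d, hd, rfl⟩ := ha
      have haD : d * f * d⁻¹ ∈ D := mul_mem (mul_mem hd hf.1) (inv_mem hd)
      have hya : Hyp p (d * f * d⁻¹) := by
        rw [hb, show d * (b * x * b⁻¹) * d⁻¹ = (d * b) * x * (d * b)⁻¹ by group]; exact S.hyp _
      have haY := le_normalizer_coreIn (q := t) (hDH haD)
      obtain ⟨r0, hr0, c0, -, hc0, rfl⟩ := exists_mvd_mul_fixed htp hya.ord coreIn_isPGroup haY hy0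
      refine mul_mem ?_ (centralizer_le_normalizer_wq (mem_centralizer_singleton_iff.2 hc0.eq))
      have h1 := mvd_le_wq coreIn_isPGroup haY hr0
      rcases eq_or_ne t r with rfl | htr
      · exact le_normalizer h1
      · refine centralizer_le_normalizer _ ?_
        rw [hb, show d * (b * x * b⁻¹) * d⁻¹ = (d * b) * x * (d * b)⁻¹ by group] at h1 ⊢
        exact S.wq_comm ht htp hr hrp htr (d * b) h1
    have hLn : normalizer (L : Set G) ≠ ⊤ := S.normalizer_ne_top' (hLp hr hrp hf) hL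
    have hstep : ∀ {c w : G}, c ∈ closure ({e, u} : Set G) → c ∉ zpowers e →
        w ∈ coreIn t (centralizer ({c} : Set G)) → w * e * w⁻¹ * e⁻¹ ≠ 1 →
        (t ≠ r → w * e * w⁻¹ * e⁻¹ ∈ centralizer (L : Set G)) ∧
          (t = r → ∃ Y, InvQ t D Y ∧ wq t e ⊓ Y ≠ ⊥ ∧ wqs t (orb D f) ⊓ Y ≠ ⊥) := by
      intro c w hc hce hw hne
      obtain ⟨H, -, hDH, hkH⟩ := S.pair_step ht htp hD he hf hgen hu hud P hc hce hw
      have heH := le_normalizer_coreIn (q := t) (hDH he.1)
      have hY := hnorm H hDH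
      refine ⟨fun htr => mem_centralizer_iff.2 fun l hl => ?_, ?_⟩
      · have h1 := mvd_le_coreIn hey hLn (hLD he.1) ht htp coreIn_isPGroup hY heH hkH
        have h2 : l ∈ coreIn r (normalizer (L : Set G)) :=
          le_coreIn le_normalizer le_rfl (hLp hr hrp hf) hl
        exact (commute_coreIn ht hr htr h1 h2).symm.eq
      · rintro rfl
        refine ⟨coreIn t H ⊔ L, ⟨coreIn_isPGroup.to_sup_of_normal_right' (hLp ht htp hf) hY,
          fun d hd => ?_⟩, fun h => hne (mem_bot.1 (h.le ⟨?_, mem_sup_left (mvd_le heH hkH)⟩)),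
          fun h => hL (le_bot_iff.1 ((le_inf le_rfl le_sup_right).trans h.le))⟩
        · rw [mem_normalizer_iff_map_conj_eq, Subgroup.map_sup,
            mem_normalizer_iff_map_conj_eq.1 (le_normalizer_coreIn (hDH hd)),
            mem_normalizer_iff_map_conj_eq.1 (hLD hd)]
        · exact mvd_le_wq coreIn_isPGroup heH hkH
    rw [S.wq_eq_lines hey P ht htp] at hk
    refine ⟨fun htr => ?_, fun htr => ?_⟩
    · refine (sSup_le ?_ : lines t e u ≤ centralizer (L : Set G)) hk
      rintro _ ⟨c, hc, hce, rfl⟩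
      rw [mvd, closure_le]
      rintro _ ⟨w, hw, rfl⟩
      by_cases h1 : w * e * w⁻¹ * e⁻¹ = 1
      · rw [SetLike.mem_coe, h1]; exact one_mem _
      · exact (hstep hc hce hw h1).1 htr
    · by_contra hno
      refine hk1 (mem_bot.1 ((sSup_le ?_ : lines t e u ≤ ⊥) hk))
      rintro _ ⟨c, hc, hce, rfl⟩
      rw [mvd, closure_le]
      rintro _ ⟨w, hw, rfl⟩
      by_contra h1
      exact hno ((hstep hc hce hw (fun h => h1 (mem_bot.2 h))).2 htr)
  -- commuting orbits
  have hcomm : ∀ {e f : G}, e ∈ cls x D → f ∈ cls x D → ∀ r : ℕ, r.Prime → r ≠ p → q ≠ r →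
      wqs q (orb D e) ≤ centralizer (wqs r (orb D f) : Set G) := by
    intro e f he hf r hr hrp hqr
    by_cases hlt : closure (orb D e) ⊔ closure (orb D f) = D
    · refine iSup₂_le fun a ha => ?_
      obtain ⟨d, hd, rfl⟩ := ha
      have he1 : wq q e ≤ centralizer (wqs r (orb D f) : Set G) := fun k hk => by
        by_cases hk1 : k = 1
        · rw [hk1]; exact one_mem _
        by_cases hL : wqs r (orb D f) = ⊥
        · rw [hL]; exact mem_centralizer_iff.2 fun l hl => by rw [mem_bot.1 hl, one_mul, mul_one]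
        exact (hkey he hf hlt hq hqp hr hrp k hk hk1 hL).1 hqr
      rw [← wq_map]
      rintro _ ⟨k, hk, rfl⟩
      refine mem_centralizer_iff.2 fun l hl => ?_
      have hl' := (mem_normalizer_iff.1 (hLD (inv_mem hd)) l).1 hl
      have h := mem_centralizer_iff.1 (he1 hk) _ hl'
      show l * (d * k * d⁻¹) = d * k * d⁻¹ * l
      calc l * (d * k * d⁻¹) = d * ((d⁻¹ * l * d⁻¹⁻¹) * k) * d⁻¹ := by group
        _ = d * (k * (d⁻¹ * l * d⁻¹⁻¹)) * d⁻¹ := by rw [h]
        _ = _ := by group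
    · have hltD : closure (orb D e) ⊔ closure (orb D f) < D :=
        lt_of_le_of_ne (sup_le (horbD he) (horbD hf)) hlt
      have h := (hsmall _ hltD q hq hqp).2 r hr hrp hqr
      refine ((wqs_mono fun a ha => ?_).trans h).trans (centralizer_le ?_)
      · exact ⟨mem_sup_left (Subgroup.subset_closure ha), (orb_subset_cls he ha).2⟩
      · exact wqs_mono fun a ha => ⟨mem_sup_right (Subgroup.subset_closure ha), (orb_subset_cls hf ha).2⟩
  have hle : ∀ t : ℕ, wqs t (cls x D) ≤ sSup {L | ∃ e ∈ cls x D, L = wqs t (orb D e)} := fun t =>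
    iSup₂_le fun a ha => (le_wqs mem_orb_self).trans (le_sSup ⟨a, ha, rfl⟩)
  refine ⟨?_, fun r hr hrp hqr => ?_⟩
  · refine (S.join hqp hD (E := cls x D) hgenD.symm (fun e he => ?_) _ ?_ ?_ ?_).to_le (hle q)
    · obtain ⟨g, rfl⟩ := he.2
      exact S.hyp g
    · rintro _ ⟨e, he, rfl⟩
      exact ⟨hLp hq hqp he, hLD⟩
    · rintro _ ⟨e, he, rfl⟩ c hc
      refine mem_normalizer_wqs fun a ha => ?_
      have haD : a ∈ D := horbD he (Subgroup.subset_closure ha)
      rwa [← mem_centralizer_iff.1 hc a haD, mul_inv_cancel_right]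
    · rintro _ ⟨e, he, rfl⟩ _ ⟨f, hf, rfl⟩ hne hne'
      by_cases hlt : closure (orb D e) ⊔ closure (orb D f) = D
      · obtain ⟨k, hk, hk1⟩ : ∃ k ∈ wq q e, k ≠ 1 := by
          by_contra hno
          push Not at hno
          refine hne (le_bot_iff.1 (iSup₂_le fun a ha => ?_))
          obtain ⟨d, hd, rfl⟩ := ha
          rw [← wq_map, show wq q e = ⊥ from (eq_bot_iff_forall _).2 hno, Subgroup.map_bot]
        obtain ⟨Y, hY, h1, h2⟩ := (hkey he hf hlt hq hqp hq hqp k hk hk1 hne').2 rfl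
        exact ⟨Y, hY, fun h => h1 (le_bot_iff.1 ((inf_le_inf_right Y (le_wqs mem_orb_self)).trans h.le)), h2⟩
      · set D' := closure (orb D e) ⊔ closure (orb D f) with hD'
        have hltD : D' < D := lt_of_le_of_ne (sup_le (horbD he) (horbD hf)) hlt
        refine ⟨wqs q (cls x D'), ⟨(hsmall _ hltD q hq hqp).1, fun d hd => mem_normalizer_wqs ?_⟩, ?_, ?_⟩
        · rintro a ⟨ha, g, rfl⟩
          refine ⟨mem_normalizer_conj (K := D') ?_ ha, d * g, by group⟩
          rw [mem_normalizer_iff_map_conj_eq, hD', Subgroup.map_sup,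
            mem_normalizer_iff_map_conj_eq.1 (le_normalizer_orb hd),
            mem_normalizer_iff_map_conj_eq.1 (le_normalizer_orb hd)]
        · rwa [inf_of_le_left (wqs_mono (B := cls x D') fun a ha =>
            ⟨mem_sup_left (Subgroup.subset_closure ha), (orb_subset_cls he ha).2⟩)]
        · rwa [inf_of_le_left (wqs_mono (B := cls x D') fun a ha =>
            ⟨mem_sup_right (Subgroup.subset_closure ha), (orb_subset_cls hf ha).2⟩)]
  · refine (hle q).trans (sSup_le ?_)
    rintro _ ⟨e, he, rfl⟩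
    rw [le_centralizer_iff]
    refine (hle r).trans (sSup_le ?_)
    rintro _ ⟨f, hf, rfl⟩
    exact le_centralizer_iff.1 (hcomm he hf r hr hrp hqr)

/-- A smallest counterexample does not exist. -/
theorem Setting.false (S : Setting p x) : False := by
  have hx1 := S.ne_one
  by_cases hall : ∀ q : ℕ, q.Prime → q ≠ p → wq q x = ⊥
  · refine hx1 (mem_bot.1 (S.pCore_eq_bot p ▸ Grp.baer_suzuki x fun g => ?_))
    obtain ⟨h, m, hyK, hD, hgm, hm⟩ := S.pair_decomp g
    have hxK : x ∈ closure ({x, g * x * g⁻¹} : Set G) := Subgroup.subset_closure (by simp)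
    have hm1 : m = 1 := by
      refine mem_bot.1 ((iSup₂_le fun t ht => sup_le ?_ ?_ : pairPart p _ x (h * x * h⁻¹) ≤ ⊥) hm)
      · exact (mvd_le_wq coreIn_isPGroup (le_normalizer_coreIn hxK)).trans (hall t ht.1 ht.2).le
      · refine (mvd_le_wq coreIn_isPGroup (le_normalizer_coreIn hyK)).trans ?_
        rw [← wq_map, hall t ht.1 ht.2, Subgroup.map_bot]
    rw [hgm, hm1, one_mul, inv_one, mul_one]
    exact hD
  push Not at hall
  obtain ⟨q, hq, hqp, hne⟩ := hall
  haveI := Fact.mk hq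
  obtain ⟨k, hk, hk1⟩ := (bot_or_exists_ne_one _).resolve_left hne
  refine hk1 (mem_bot.1 (S.pCore_eq_bot q ▸ Grp.baer_suzuki k fun g => ?_))
  obtain ⟨h, m, hyK, hD, hgm, hm⟩ := S.pair_decomp g
  set y := h * x * h⁻¹ with hy
  set D := closure ({x, y} : Set G)
  have hxK : x ∈ closure ({x, g * x * g⁻¹} : Set G) := Subgroup.subset_closure (by simp)
  have hxc : x ∈ cls x D := ⟨Subgroup.subset_closure (by simp), 1, by simp⟩
  have hyc : y ∈ cls x D := ⟨Subgroup.subset_closure (by simp), h, rfl⟩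
  set L := wqs q (cls x D)
  have hmN : m ∈ normalizer (L : Set G) := by
    have hone : ∀ t : ℕ, t.Prime → t ≠ p → wqs t (cls x D) ≤ normalizer (L : Set G) := by
      intro t ht htp
      rcases eq_or_ne t q with rfl | htq
      · exact le_normalizer
      · exact ((S.nil_spec _ D rfl hD t ht htp).2 q hq hqp htq).trans (centralizer_le_normalizer _)
    refine (iSup₂_le fun t ht => le_trans (sup_le ?_ ?_) (hone t ht.1 ht.2) :
      pairPart p _ x y ≤ normalizer (L : Set G)) hm
    · exact (mvd_le_wq coreIn_isPGroup (le_normalizer_coreIn hxK)).trans (le_wqs hxc)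
    · exact (mvd_le_wq coreIn_isPGroup (le_normalizer_coreIn hyK)).trans (le_wqs hyc)
  have hgk : g * k * g⁻¹ ∈ L := by
    have h1 : g * k * g⁻¹ ∈ wq q (g * x * g⁻¹) := wq_map (q := q) x g ▸ ⟨k, hk, rfl⟩
    rw [hgm, ← wq_map] at h1
    obtain ⟨l, hl, e⟩ := h1
    exact e ▸ mem_normalizer_conj hmN (le_wqs hyc hl)
  refine (S.nil_spec _ D rfl hD q hq hqp).1.to_le ((closure_le _).2 ?_)
  rintro z (rfl | rfl)
  · exact le_wqs hxc hk
  · exact hgk

end Cfsg.Agent.Fus.F2Pairs
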