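import Cfsg.Agent.Lib.Fus.F2Pairs.Basic
import Cfsg.Agent.Lib.Grp.Solvable

/-!
Behaviour of the second Fitting subgroup under homomorphisms, and the two-generation condition
on an element.
-/

set_option autoImplicit false
set_option linter.style.haveILetI false
set_option linter.unusedSectionVars false

namespace Cfsg.Agent.Fus.F2Pairs

open Subgroup

universe u v w

variable {G : Type u} [Group G] [Finite G] {H : Type v} [Group H] [Finite H]

theorem isNilpotent_map_of_ker_le {A : Type v} [Group A] {B : Type w} [Group B] {f : G →* A}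
    {g : G →* B} (hk : f.ker ≤ g.ker) {N : Subgroup G} (h : Group.IsNilpotent (N.map f)) :
    Group.IsNilpotent (N.map g) := by
  have hker : (f.subgroupMap N).ker ≤ (g.subgroupMap N).ker := fun a ha =>
    Subtype.ext (hk (show f (a : G) = 1 from congrArg Subtype.val ha))
  let L := (f.subgroupMap N).liftOfSurjective (f.subgroupMap_surjective N) ⟨g.subgroupMap N, hker⟩
  refine Group.nilpotent_of_surjective L fun b => ?_
  obtain ⟨a, rfl⟩ := g.subgroupMap_surjective N b
  exact ⟨f.subgroupMap N a, MonoidHom.liftOfRightInverse_comp_apply _ _ _ _ a⟩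

theorem fitting_le_ftwo : Cfsg.fittingSubgroup G ≤ ftwo G := by
  haveI : (Cfsg.fittingSubgroup G).Normal := Grp.fittingSubgroup_isNormal
  intro a ha
  show QuotientGroup.mk' (Cfsg.fittingSubgroup G) a ∈ Cfsg.fittingSubgroup _
  rw [show QuotientGroup.mk' (Cfsg.fittingSubgroup G) a = 1 from (QuotientGroup.eq_one_iff a).2 ha]
  exact one_mem _

theorem ftwo_normal : (ftwo G).Normal := by
  haveI : (Cfsg.fittingSubgroup G).Normal := Grp.fittingSubgroup_isNormal
  exact Grp.fittingSubgroup_isNormal.comap _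

theorem isNilpotent_ftwo_map [(Cfsg.fittingSubgroup G).Normal] :
    Group.IsNilpotent ((ftwo G).map (QuotientGroup.mk' (Cfsg.fittingSubgroup G))) :=
  Grp.isNilpotent_of_le (map_comap_le _ _) Grp.fittingSubgroup_isNilpotent

/-- A normal subgroup nilpotent modulo the Fitting subgroup lies in the second one. -/
theorem le_ftwo {A : Type v} [Group A] {N : Subgroup G} (hN : N.Normal) (f : G →* A)
    (hk : f.ker ≤ Cfsg.fittingSubgroup G) (h : Group.IsNilpotent (N.map f)) : N ≤ ftwo G := by
  haveI : (Cfsg.fittingSubgroup G).Normal := Grp.fittingSubgroup_isNormal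
  exact map_le_iff_le_comap.1 (Grp.le_fittingSubgroup (hN.map _ (QuotientGroup.mk'_surjective _))
    (isNilpotent_map_of_ker_le (hk.trans (QuotientGroup.ker_mk' _).ge) h))

theorem isSolvable_ftwo : Group.IsSolvable (ftwo G) := by
  haveI : (Cfsg.fittingSubgroup G).Normal := Grp.fittingSubgroup_isNormal
  haveI := Grp.fittingSubgroup_isNilpotent (G := G)
  haveI := isNilpotent_ftwo_map (G := G)
  refine Group.isSolvable_of_ker_le_range (Subgroup.inclusion fitting_le_ftwo)
    ((QuotientGroup.mk' (Cfsg.fittingSubgroup G)).subgroupMap (ftwo G)) fun a ha => ?_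
  exact ⟨⟨a, (QuotientGroup.eq_one_iff (a : G)).1 (congrArg Subtype.val ha)⟩, rfl⟩

theorem fitting_comap_le {f : H →* G} (hf : Function.Injective f) :
    (Cfsg.fittingSubgroup G).comap f ≤ Cfsg.fittingSubgroup H := by
  haveI : (Cfsg.fittingSubgroup G).Normal := Grp.fittingSubgroup_isNormal
  haveI := Grp.fittingSubgroup_isNilpotent (G := G)
  refine Grp.le_fittingSubgroup inferInstance ?_
  refine Subgroup.isNilpotent_of_ker_le_center (f.subgroupComap (Cfsg.fittingSubgroup G)) ?_
  rw [(MonoidHom.ker_eq_bot_iff _).2 fun _ _ h => Subtype.ext (hf (congrArg Subtype.val h))]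
  exact bot_le

theorem ftwo_comap_le {f : H →* G} (hf : Function.Injective f) : (ftwo G).comap f ≤ ftwo H := by
  haveI : (Cfsg.fittingSubgroup G).Normal := Grp.fittingSubgroup_isNormal
  refine le_ftwo (ftwo_normal.comap f) ((QuotientGroup.mk' (Cfsg.fittingSubgroup G)).comp f) ?_ ?_
  · rw [← MonoidHom.comap_ker, QuotientGroup.ker_mk']
    exact fitting_comap_le hf
  · rw [← map_map]
    exact Grp.isNilpotent_of_le (map_mono (map_comap_le _ _)) isNilpotent_ftwo_map

theorem ftwo_map_le {f : G →* H} (hf : Function.Surjective f) : (ftwo G).map f ≤ ftwo H := by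
  haveI : (Cfsg.fittingSubgroup H).Normal := Grp.fittingSubgroup_isNormal
  haveI : (Cfsg.fittingSubgroup G).Normal := Grp.fittingSubgroup_isNormal
  refine le_ftwo (ftwo_normal.map f hf) (QuotientGroup.mk' _) (QuotientGroup.ker_mk' _).le ?_
  rw [map_map]
  refine isNilpotent_map_of_ker_le ?_ (isNilpotent_ftwo_map (G := G))
  rw [QuotientGroup.ker_mk', ← MonoidHom.comap_ker, QuotientGroup.ker_mk', ← map_le_iff_le_comap]
  exact Grp.le_fittingSubgroup (Grp.fittingSubgroup_isNormal.map f hf)
    (Grp.isNilpotent_map Grp.fittingSubgroup_isNilpotent f)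

theorem ftwo_char_map_le {N : Subgroup G} [N.Normal] : (ftwo N).map N.subtype ≤ ftwo G := by
  haveI : (Cfsg.fittingSubgroup N).Normal := Grp.fittingSubgroup_isNormal
  haveI : (Cfsg.fittingSubgroup G).Normal := Grp.fittingSubgroup_isNormal
  haveI : (ftwo N).Characteristic :=
    characteristic_iff_map_le.2 fun φ => ftwo_map_le φ.surjective
  refine le_ftwo inferInstance (QuotientGroup.mk' (Cfsg.fittingSubgroup G))
    (QuotientGroup.ker_mk' _).le ?_
  rw [map_map]
  refine isNilpotent_map_of_ker_le ?_ (isNilpotent_ftwo_map (G := N))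
  rw [QuotientGroup.ker_mk', ← MonoidHom.comap_ker, QuotientGroup.ker_mk', ← map_le_iff_le_comap]
  exact (Grp.fittingSubgroup_map_eq N).le.trans inf_le_left

/-- The condition of the statement. -/
def Good (G : Type u) [Group G] (x : G) : Prop :=
  ∀ y : G, ∀ hx : x ∈ closure ({x, y} : Set G), (⟨x, hx⟩ : closure ({x, y} : Set G)) ∈ ftwo _

theorem mem_ftwo_of_map {f : H →* G} (hf : Function.Injective f) {K : Subgroup H} {K' : Subgroup G}
    (hle : K.map f ≤ K') {a : H} (ha : a ∈ K) (h : (⟨f a, hle ⟨a, ha, rfl⟩⟩ : K') ∈ ftwo K') :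
    (⟨a, ha⟩ : K) ∈ ftwo K :=
  ftwo_comap_le (f := (f.comp K.subtype).codRestrict K' fun b => hle ⟨b, b.2, rfl⟩)
    (fun _ _ h => Subtype.ext (hf (congrArg Subtype.val h))) h

theorem Good.zpow {x : G} (h : Good G x) (i : ℤ) : Good G (x ^ i) := by
  intro y hx
  have hle : (closure ({x ^ i, y} : Set G)).map (MonoidHom.id G) ≤ closure ({x, y} : Set G) := by
    rw [Subgroup.map_id, closure_le]
    rintro z (rfl | rfl)
    · exact zpow_mem (Subgroup.subset_closure (by simp)) i
    · exact Subgroup.subset_closure (by simp)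
  exact mem_ftwo_of_map (f := MonoidHom.id G) Function.injective_id hle hx
    (zpow_mem (h y (Subgroup.subset_closure (by simp))) i)

theorem Good.subgroup {x : G} (h : Good G x) {K : Subgroup G} (hxK : x ∈ K) : Good K ⟨x, hxK⟩ := by
  rintro ⟨y, hy⟩ hx
  refine mem_ftwo_of_map (f := K.subtype) K.subtype_injective (K' := closure ({x, y} : Set G)) ?_ hx
    (h y _)
  rw [MonoidHom.map_closure, Set.image_pair]
  rfl

theorem Good.map {x : G} (h : Good G x) {f : G →* H} (hf : Function.Surjective f) : Good H (f x) := by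
  intro z hx
  obtain ⟨y, rfl⟩ := hf z
  have e : (closure ({x, y} : Set G)).map f = closure ({f x, f y} : Set H) := by
    rw [MonoidHom.map_closure, Set.image_pair]
  have h1 := ftwo_map_le (f.subgroupMap_surjective (closure ({x, y} : Set G)))
    ⟨_, h y (Subgroup.subset_closure (by simp)), rfl⟩
  revert hx
  rw [← e]
  exact fun _ => h1

theorem Good.mem_of_gen {x y : G} (h : Good G x) (hgen : closure ({x, y} : Set G) = ⊤) : x ∈ ftwo G :=
  ftwo_map_le (f := (closure ({x, y} : Set G)).subtype) (fun a => ⟨⟨a, hgen ▸ mem_top a⟩, rfl⟩)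
    ⟨_, h y (Subgroup.subset_closure (by simp)), rfl⟩

/-- An element whose parts of prime power order lie in `K` lies in `K`. -/
theorem mem_of_primePow_parts {x : G} {K : Subgroup G}
    (h : ∀ z ∈ zpowers x, ∀ p k : ℕ, p.Prime → orderOf z = p ^ k → z ∈ K) : x ∈ K := by
  suffices key : ∀ n : ℕ, ∀ z ∈ zpowers x, orderOf z = n → z ∈ K from key _ x (mem_zpowers x) rfl
  intro n
  induction n using Nat.recOnPosPrimePosCoprime with
  | prime_pow p k hp _ => exact fun z hz hn => h z hz p k hp hn
  | zero => exact fun z _ hn => absurd hn (orderOf_pos z).ne'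
  | one => exact fun z _ hn => by rw [orderOf_eq_one_iff.1 hn]; exact one_mem _
  | coprime a b ha hb hab iha ihb =>
    intro z hz hn
    have h1 : orderOf (z ^ b) = a := by
      rw [orderOf_pow' _ (by omega), hn, Nat.gcd_mul_left_left, Nat.mul_div_cancel _ (by omega)]
    have h2 : orderOf (z ^ a) = b := by
      rw [orderOf_pow' _ (by omega), hn, Nat.gcd_mul_right_left, Nat.mul_div_cancel_left _ (by omega)]
    have e : (1 : ℤ) = (a : ℤ) * Nat.gcdA a b + (b : ℤ) * Nat.gcdB a b := by
      rw [← Nat.gcd_eq_gcd_ab, hab]; rfl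
    rw [← zpow_one z, e, zpow_add, zpow_mul, zpow_mul, zpow_natCast, zpow_natCast]
    exact mul_mem (zpow_mem (ihb _ (pow_mem hz a) h2) _) (zpow_mem (iha _ (pow_mem hz b) h1) _)

end Cfsg.Agent.Fus.F2Pairs
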