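import Cfsg.Agent.Lib.Fus.F2Pairs.Basic
import Cfsg.Agent.Lib.Grp.SignalizerTransitive

/-!
The subgroup `wq p q y` generated by all moved q-parts at `y`, and the transitivity of maximal
q-subgroups normalised by a p-group generated by elements in the second Fitting subgroup.
-/

set_option autoImplicit false
set_option linter.style.haveILetI false
set_option linter.unusedSectionVars false

namespace Cfsg.Agent.Fus.F2Pairs

open Subgroup

universe u

variable {G : Type u} [Group G] {p q : ℕ}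

/-- `k` is a commutator of `y` with an element of an invariant q-group. -/
def IsCm (q : ℕ) (y k : G) : Prop :=
  ∃ Q : Subgroup G, IsPGroup q Q ∧ y ∈ normalizer (Q : Set G) ∧ ∃ w ∈ Q, k = w * y * w⁻¹ * y⁻¹

/-- The subgroup generated by all moved q-parts at `y`. -/
def wq (q : ℕ) (y : G) : Subgroup G := closure {k | IsCm q y k}

theorem mvd_le_wq {y : G} {Q : Subgroup G} (hQ : IsPGroup q Q) (hy : y ∈ normalizer (Q : Set G)) :
    mvd y Q ≤ wq q y :=
  closure_mono fun _ ⟨w, hw, e⟩ => ⟨Q, hQ, hy, w, hw, e⟩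

theorem mem_normalizer_map {y g : G} {Q : Subgroup G} (hy : y ∈ normalizer (Q : Set G)) :
    g * y * g⁻¹ ∈ normalizer ((Q.map (MulAut.conj g).toMonoidHom : Subgroup G) : Set G) :=
  le_normalizer_map (MulAut.conj g).toMonoidHom ⟨y, hy, rfl⟩

theorem wq_map (y g : G) : (wq q y).map (MulAut.conj g).toMonoidHom = wq q (g * y * g⁻¹) := by
  rw [wq, MonoidHom.map_closure, wq]
  congr 1
  ext k
  constructor
  · rintro ⟨_, ⟨Q, hQ, hy, w, hw, rfl⟩, rfl⟩
    exact ⟨Q.map (MulAut.conj g).toMonoidHom, hQ.map _, mem_normalizer_map hy, g * w * g⁻¹,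
      ⟨w, hw, rfl⟩, by simp [mul_assoc]⟩
  · rintro ⟨Q, hQ, hy, w, hw, rfl⟩
    refine ⟨g⁻¹ * (w * (g * y * g⁻¹) * w⁻¹ * (g * y * g⁻¹)⁻¹) * g,
      ⟨Q.map (MulAut.conj g⁻¹).toMonoidHom, hQ.map _, ?_, g⁻¹ * w * g, ⟨w, hw, by simp⟩, by group⟩,
      by simp [mul_assoc]⟩
    have := mem_normalizer_map (g := g⁻¹) hy
    rwa [show g⁻¹ * (g * y * g⁻¹) * g⁻¹⁻¹ = y by group] at this

section Finite

variable [Finite G]

theorem wq_le_of_mem_zpowers {y a : G} (ha : a ∈ zpowers y) (hy : y ∈ zpowers a) :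
    wq q a ≤ wq q y := by
  rw [wq, closure_le]
  rintro _ ⟨Q, hQ, haQ, w, hw, rfl⟩
  have hyQ : y ∈ normalizer (Q : Set G) := zpowers_le.2 haQ hy
  exact mvd_le_wq hQ hyQ (cm_zpowers_mem hyQ ha hw)

theorem wq_eq_of_zpowers {y a : G} (h : zpowers a = zpowers y) : wq q a = wq q y :=
  le_antisymm (wq_le_of_mem_zpowers (h.le (mem_zpowers a)) (h.ge (mem_zpowers y)))
    (wq_le_of_mem_zpowers (h.ge (mem_zpowers y)) (h.le (mem_zpowers a)))

theorem zpowers_conj_eq {y m : G} (hm : m * y * m⁻¹ ∈ zpowers y) :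
    zpowers (m * y * m⁻¹) = zpowers y := by
  refine eq_of_le_of_card_ge (zpowers_le.2 hm) ?_
  rw [Nat.card_zpowers, Nat.card_zpowers,
    show m * y * m⁻¹ = MulAut.conj m y from rfl, MulEquiv.orderOf_eq]

/-- The normaliser of `⟨y⟩` normalises `wq q y`. -/
theorem mem_normalizer_wq {y m : G} (hm : m * y * m⁻¹ ∈ zpowers y) :
    m ∈ normalizer (wq q y : Set G) := by
  rw [mem_normalizer_iff_map_conj_eq]
  exact (wq_map y m).trans (wq_eq_of_zpowers (zpowers_conj_eq hm))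

theorem centralizer_le_normalizer_wq {y : G} :
    centralizer ({y} : Set G) ≤ normalizer (wq q y : Set G) := fun m hm =>
  mem_normalizer_wq (by
    rw [mem_centralizer_singleton_iff.1 hm, mul_inv_cancel_right]; exact mem_zpowers y)

variable [hp : Fact p.Prime] {x : G}

theorem Setting.normalizer_ne_top (S : Setting p x) {X : Subgroup G} (hX : Group.IsSolvable X)
    (hne : X ≠ ⊥) : normalizer (X : Set G) ≠ ⊤ := fun h =>
  hne (S.noSolv X (normalizer_eq_top_iff.1 h) hX)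

theorem Setting.normalizer_ne_top' (S : Setting p x) [Fact q.Prime] {X : Subgroup G}
    (hX : IsPGroup q X) (hne : X ≠ ⊥) : normalizer (X : Set G) ≠ ⊤ :=
  haveI := hX.isNilpotent
  S.normalizer_ne_top inferInstance hne

theorem Setting.centralizer_ne_top (S : Setting p x) {a : G} (ha : a ≠ 1) :
    centralizer ({a} : Set G) ≠ ⊤ := fun h => by
  have hn : (zpowers a).Normal := ⟨fun z hz g => by
    have hle : zpowers a ≤ centralizer ({g} : Set G) := zpowers_le.2 (mem_centralizer_singleton_iff.2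
      (mem_centralizer_singleton_iff.1 (h.ge (mem_top g))).symm)
    rw [(mem_centralizer_singleton_iff.1 (hle hz)).symm, mul_inv_cancel_right]
    exact hz⟩
  refine ha (zpowers_eq_bot.1 (S.noSolv _ hn ?_))
  exact Group.isSolvable_of_comm fun z w => Subtype.ext (setLike_mul_comm z.2 w.2)

/-- A q-group normalised by `D`. -/
def InvQ (q : ℕ) (D Q : Subgroup G) : Prop := IsPGroup q Q ∧ D ≤ normalizer (Q : Set G)

theorem InvQ.map {D Q : Subgroup G} (h : InvQ q D Q) {c : G} (hc : c ∈ centralizer (D : Set G)) :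
    InvQ q D (Q.map (MulAut.conj c).toMonoidHom) := by
  refine ⟨h.1.map _, fun d hd => ?_⟩
  have := mem_normalizer_map (g := c) (h.2 hd)
  rwa [show c * d * c⁻¹ = d by rw [← mem_centralizer_iff.1 hc d hd, mul_inv_cancel_right]] at this

theorem mem_normalizer_inf {A B : Subgroup G} {z : G} (hA : z ∈ normalizer (A : Set G))
    (hB : z ∈ normalizer (B : Set G)) : z ∈ normalizer ((A ⊓ B : Subgroup G) : Set G) :=
  mem_normalizer_iff.2 fun a => by
    simp only [mem_inf]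
    exact and_congr (mem_normalizer_iff.1 hA a) (mem_normalizer_iff.1 hB a)

theorem maximal_map {D Q : Subgroup G} (h : Maximal (InvQ q D) Q) {c : G}
    (hc : c ∈ centralizer (D : Set G)) : Maximal (InvQ q D) (Q.map (MulAut.conj c).toMonoidHom) := by
  refine ⟨h.1.map hc, fun R hR hle => ?_⟩
  have h1 := h.2 (hR.map (inv_mem hc)) (y := R.map (MulAut.conj c⁻¹).toMonoidHom) (by
    intro a ha
    exact ⟨c * a * c⁻¹, hle ⟨a, ha, rfl⟩, by simp [mul_assoc]⟩)
  intro b hb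
  exact ⟨c⁻¹ * b * c, h1 ⟨b, hb, by simp⟩, by simp [mul_assoc]⟩

set_option maxHeartbeats 1000000 in
/-- Maximal invariant q-subgroups with nontrivial intersection are conjugate under the centraliser. -/
theorem Setting.transitive (S : Setting p x) [hq : Fact q.Prime] (hqp : q ≠ p) {D : Subgroup G}
    (hDp : IsPGroup p D) {E : Set G} (hDE : D = closure E) (hE : ∀ e ∈ E, Hyp p e) :
    ∀ (n : ℕ) (Q Q' : Subgroup G), Maximal (InvQ q D) Q → Maximal (InvQ q D) Q' → Q ⊓ Q' ≠ ⊥ →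
      Nat.card G - Nat.card ↥(Q ⊓ Q') = n →
      ∃ c ∈ centralizer (D : Set G), Q' = Q.map (MulAut.conj c).toMonoidHom := by
  intro n
  induction n using Nat.strong_induction_on with
  | _ n ih =>
  intro Q Q' hQ hQ' hne hn
  set B := Q ⊓ Q' with hB
  by_cases hBQ : B = Q
  · refine ⟨1, one_mem _, ?_⟩
    have h : Q ≤ Q' := hBQ ▸ inf_le_right
    ext z
    simp only [map_one]
    constructor
    · exact fun hz => ⟨z, hQ.2 hQ'.1 h hz, rfl⟩
    · rintro ⟨z, hz, rfl⟩; exact h hz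
  have hBQ' : B ≠ Q' := fun e => by
    have h : Q' ≤ Q := e ▸ inf_le_left
    exact hBQ (by rw [hB, le_antisymm h (hQ'.2 hQ.1 h), inf_idem])
  have hBp : IsPGroup q B := hQ.1.1.to_le inf_le_left
  set N := normalizer (B : Set G) with hN
  have hN' : N ≠ ⊤ := S.normalizer_ne_top' hBp hne
  have hDN : D ≤ N := fun d hd => mem_normalizer_inf (hQ.1.2 hd) (hQ'.1.2 hd)
  set R := coreIn q N with hR
  have hDR : D ≤ normalizer (R : Set G) := hDN.trans le_normalizer_coreIn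
  have hQl : B < Q ⊓ N := Grp.lt_inf_normalizer hQ.1.1.isNilpotent (lt_of_le_of_ne inf_le_left hBQ)
  have hQl' : B < Q' ⊓ N :=
    Grp.lt_inf_normalizer hQ'.1.1.isNilpotent (lt_of_le_of_ne inf_le_right hBQ')
  -- invariant subgroups of the normaliser split over the core
  have hsplit : ∀ A : Subgroup G, InvQ q D A → A ⊓ N ≤ R ⊔ ((R ⊔ A ⊓ N) ⊓ centralizer (D : Set G)) := by
    intro A hA w hw
    have hAN : IsPGroup q (A ⊓ N : Subgroup G) := hA.1.to_le inf_le_left
    have hgood : ∀ d ∈ closure E, ∀ z ∈ A ⊓ N, d * z * d⁻¹ * z⁻¹ ∈ R := by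
      intro d hd
      induction hd using closure_induction with
      | mem e he =>
        intro z hz
        have heD : e ∈ D := hDE.ge (Subgroup.subset_closure he)
        have := inv_mem (mvd_le_coreIn (hE e he) hN' (hDN heD) hq.out hqp hAN inf_le_right
          (mem_normalizer_inf (hA.2 heD) (le_normalizer (hDN heD))) (cm_mem_mvd hz))
        rwa [show (z * e * z⁻¹ * e⁻¹)⁻¹ = e * z * e⁻¹ * z⁻¹ by group] at this
      | one => intro z hz; simp
      | mul a b ha _ iha ihb =>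
        intro z hz
        rw [show a * b * z * (a * b)⁻¹ * z⁻¹ = a * (b * z * b⁻¹ * z⁻¹) * a⁻¹ * (a * z * a⁻¹ * z⁻¹) by
          group]
        exact mul_mem (mem_normalizer_conj (hDR (hDE.ge ha)) (ihb z hz)) (iha z hz)
      | inv a ha iha =>
        intro z hz
        rw [show a⁻¹ * z * a⁻¹⁻¹ * z⁻¹ = a⁻¹ * (a * z * a⁻¹ * z⁻¹)⁻¹ * a⁻¹⁻¹ by group]
        exact mem_normalizer_conj (hDR (inv_mem (hDE.ge ha))) (inv_mem (iha z hz))
    obtain ⟨u, hu, hc⟩ := exists_fixed_coset (p := p) hp.out hq.out hqp hDp coreIn_isPGroup hDR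
      (w := w) (fun a ha => hgood a (hDE.le ha) w hw)
    rw [show w = u⁻¹ * (u * w) by group]
    exact mul_mem (mem_sup_left (inv_mem hu)) (mem_sup_right ⟨mul_mem (mem_sup_left hu)
      (mem_sup_right hw), mem_centralizer_iff.2 fun a ha => (hc a ha).eq⟩)
  set CN := N ⊓ centralizer (D : Set G) with hCN
  have hC1 : ∀ A : Subgroup G, InvQ q D A →
      IsPGroup q (((R ⊔ A ⊓ N) ⊓ centralizer (D : Set G)).subgroupOf CN) := fun A hA =>
    ((coreIn_isPGroup.to_sup_of_normal_left' (hA.1.to_le inf_le_left)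
      (inf_le_right.trans le_normalizer_coreIn)).to_le inf_le_left).comap_subtype
  obtain ⟨T, hT⟩ := (hC1 Q hQ.1).exists_le_sylow
  obtain ⟨T', hT'⟩ := (hC1 Q' hQ'.1).exists_le_sylow
  obtain ⟨c, hc⟩ := MulAction.exists_smul_eq CN T' T
  have hcN : (c : G) ∈ N := c.2.1
  have hcD : (c : G) ∈ centralizer (D : Set G) := c.2.2
  set T0 := (T : Subgroup CN).map CN.subtype with hT0
  have hT0N : T0 ≤ N := (map_subtype_le _).trans inf_le_left
  have hbig : IsPGroup q (R ⊔ T0 : Subgroup G) :=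
    coreIn_isPGroup.to_sup_of_normal_left' (T.isPGroup'.map _) (hT0N.trans le_normalizer_coreIn)
  have hbigD : D ≤ normalizer ((R ⊔ T0 : Subgroup G) : Set G) := by
    intro d hd
    rw [mem_normalizer_iff_map_conj_eq, Subgroup.map_sup]
    congr 1
    · exact mem_normalizer_iff_map_conj_eq.1 (hDR hd)
    · have hfix : ∀ z ∈ T0, d * z * d⁻¹ = z := fun z hz => by
        have h := mem_centralizer_iff.1 (((map_subtype_le _).trans inf_le_right) hz) d hd
        rw [h, mul_inv_cancel_right]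
      ext z
      constructor
      · rintro ⟨a, ha, rfl⟩
        show d * a * d⁻¹ ∈ T0
        rwa [hfix a ha]
      · exact fun hz => ⟨z, hz, hfix z hz⟩
  obtain ⟨Q'', hle, hQ''⟩ := Finite.exists_le_maximal (p := InvQ q D) ⟨hbig, hbigD⟩
  have hmem : ∀ A : Subgroup G, ∀ U : Sylow q CN,
      ((R ⊔ A ⊓ N) ⊓ centralizer (D : Set G)).subgroupOf CN ≤ (U : Subgroup CN) →
      (R ⊔ A ⊓ N) ⊓ centralizer (D : Set G) ≤ (U : Subgroup CN).map CN.subtype := fun A U hU z hz =>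
    ⟨⟨z, sup_le coreIn_le inf_le_right hz.1, hz.2⟩, hU (mem_subgroupOf.2 hz), rfl⟩
  have h1 : Q ⊓ N ≤ Q'' := (hsplit Q hQ.1).trans ((sup_le_sup_left (hmem Q T hT) R).trans hle)
  have h2 : (Q' ⊓ N).map (MulAut.conj (c : G)).toMonoidHom ≤ Q'' := by
    refine (map_mono ((hsplit Q' hQ'.1).trans (sup_le_sup_left (hmem Q' T' hT') R))).trans
      (le_trans ?_ hle)
    rw [Subgroup.map_sup]
    refine sup_le_sup ?_ ?_
    · rintro _ ⟨z, hz, rfl⟩
      exact mem_normalizer_conj (le_normalizer_coreIn hcN) hz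
    · rintro _ ⟨_, ⟨z, hz, rfl⟩, rfl⟩
      refine ⟨c * z * c⁻¹, ?_, rfl⟩
      rw [← hc, Sylow.coe_subgroup_smul]
      exact ⟨z, hz, rfl⟩
  have hdec : ∀ {A₁ A₂ E' : Subgroup G}, B < E' → E' ≤ A₁ ⊓ A₂ →
      Nat.card G - Nat.card ↥(A₁ ⊓ A₂) < n := by
    intro A₁ A₂ E' hlt hle
    have a1 : Nat.card B < Nat.card E' :=
      lt_of_le_of_ne (card_le_of_le hlt.le) fun e => hlt.ne (eq_of_le_of_card_ge hlt.le e.ge)
    have a2 := card_le_of_le hle
    have a3 := Subgroup.card_le_card_group (A₁ ⊓ A₂)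
    omega
  have hneQ : Q ⊓ Q'' ≠ ⊥ := fun e => hne (le_bot_iff.1 (e ▸ le_inf inf_le_left (hQl.le.trans h1)))
  obtain ⟨c1, hc1, e1⟩ := ih _ (hdec hQl (le_inf inf_le_left h1)) Q Q'' hQ hQ'' hneQ rfl
  set cf := (MulAut.conj (c : G)).toMonoidHom
  have hcB : B.map cf = B := mem_normalizer_iff_map_conj_eq.1 hcN
  have hQl'' : B < (Q' ⊓ N).map cf := by
    rw [← hcB]
    exact (map_lt_map_iff_of_injective (MulAut.conj (c : G)).injective).2 hQl'
  have h3 : (Q' ⊓ N).map cf ≤ Q'' ⊓ Q'.map cf := le_inf h2 (map_mono inf_le_left)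
  have hneQ' : Q'' ⊓ Q'.map cf ≠ ⊥ := fun e => hne (le_bot_iff.1 (e ▸ hQl''.le.trans h3))
  obtain ⟨c2, hc2, e2⟩ := ih _ (hdec hQl'' h3) Q'' (Q'.map cf) hQ'' (maximal_map hQ' hcD) hneQ' rfl
  refine ⟨(c : G)⁻¹ * c2 * c1, mul_mem (mul_mem (inv_mem hcD) hc2) hc1, ?_⟩
  rw [e1, map_map] at e2
  have := congrArg (Subgroup.map (MulAut.conj (c : G)⁻¹).toMonoidHom) e2
  rw [map_map, map_map] at this
  convert this using 2
  · ext z
    constructor
    · exact fun hz => ⟨z, hz, by simp [cf, mul_assoc]⟩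
    · rintro ⟨z', hz', rfl⟩
      simpa [cf, mul_assoc] using hz'
  · ext z; simp [mul_assoc]

/-- A family of invariant q-groups linked pairwise generates a q-group. -/
theorem Setting.join (S : Setting p x) [hq : Fact q.Prime] (hqp : q ≠ p) {D : Subgroup G}
    (hDp : IsPGroup p D) {E : Set G} (hDE : D = closure E) (hE : ∀ e ∈ E, Hyp p e)
    (F : Set (Subgroup G)) (hF : ∀ L ∈ F, InvQ q D L)
    (hC : ∀ L ∈ F, centralizer (D : Set G) ≤ normalizer (L : Set G))
    (hlink : ∀ L ∈ F, ∀ L' ∈ F, L ≠ ⊥ → L' ≠ ⊥ → ∃ Y, InvQ q D Y ∧ L ⊓ Y ≠ ⊥ ∧ L' ⊓ Y ≠ ⊥) :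
    IsPGroup q (sSup F : Subgroup G) := by
  by_cases hall : ∀ L ∈ F, L = ⊥
  · rw [show sSup F = ⊥ from le_bot_iff.1 (sSup_le fun L hL => (hall L hL).le)]
    exact IsPGroup.of_bot
  push Not at hall
  obtain ⟨L₀, hL₀, hL₀ne⟩ := hall
  obtain ⟨Q₀, hQ₀le, hQ₀⟩ := Finite.exists_le_maximal (p := InvQ q D) (hF L₀ hL₀)
  refine hQ₀.1.1.to_le (sSup_le fun L hL => ?_)
  rcases eq_or_ne L ⊥ with rfl | hLne
  · exact bot_le
  obtain ⟨Y, hY, hY0, hYL⟩ := hlink L₀ hL₀ L hL hL₀ne hLne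
  obtain ⟨QY, hYle, hQY⟩ := Finite.exists_le_maximal (p := InvQ q D) hY
  obtain ⟨QL, hLle, hQL⟩ := Finite.exists_le_maximal (p := InvQ q D) (hF L hL)
  have inv : ∀ {A B : Subgroup G} {c : G}, c ∈ centralizer (D : Set G) →
      centralizer (D : Set G) ≤ normalizer (A : Set G) → A ≤ B →
      A ≤ B.map (MulAut.conj c).toMonoidHom := fun hc hA hAB =>
    (mem_normalizer_iff_map_conj_eq.1 (hA hc)).ge.trans (map_mono hAB)
  obtain ⟨c, hc, e⟩ := S.transitive hqp hDp hDE hE _ QL QY hQL hQY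
    (fun e => hYL (le_bot_iff.1 (e ▸ inf_le_inf hLle hYle))) rfl
  obtain ⟨c', hc', e'⟩ := S.transitive hqp hDp hDE hE _ QY Q₀ hQY hQ₀
    (fun e => hY0 (le_bot_iff.1 (e ▸ le_inf (inf_le_right.trans hYle) (inf_le_left.trans hQ₀le)))) rfl
  rw [e']
  exact inv hc' (hC L hL) (e ▸ inv hc (hC L hL) hLle)

end Finite

end Cfsg.Agent.Fus.F2Pairs
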