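import Cfsg.Agent.Lib.Fus.F2Pairs.Finish
import Cfsg.Agent.Lib.Fus.F2Pairs.Ftwo
import Cfsg.Agent.Lib.Fus.Powell.Split

/-!
An element lying in the second Fitting subgroup of every two-generated subgroup containing it lies
in the second Fitting subgroup: induction on the order of the group.
-/

set_option autoImplicit false
set_option linter.style.haveILetI false
set_option linter.unusedSectionVars false

namespace Cfsg.Agent.Fus.F2Pairs

open Subgroup

universe u

variable {G : Type u} [Group G] [Finite G] {p : ℕ} [hp : Fact p.Prime] {x : G}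

/-- A p-element of the second Fitting subgroup centralising all other cores lies in the first. -/
theorem mem_fitting_of_centralizes {z : G} (hz : IsPGroup p (zpowers z)) (hz2 : z ∈ ftwo G)
    (hc : ∀ s : ℕ, s.Prime → s ≠ p → ∀ a ∈ Cfsg.pCore s G, Commute z a) :
    z ∈ Cfsg.fittingSubgroup G := by
  haveI : (Cfsg.fittingSubgroup G).Normal := Grp.fittingSubgroup_isNormal
  set f := QuotientGroup.mk' (Cfsg.fittingSubgroup G)
  set W := normalClosure ({z} : Set G)
  set F' := ⨆ s ∈ {s : ℕ | s.Prime ∧ s ≠ p}, Cfsg.pCore s G with hF'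
  haveI hF'n : F'.Normal := Subgroup.biSup_normal _ _ fun _ _ => Grp.pCore_isNormal
  haveI : (centralizer (F' : Set G)).Normal := Subgroup.normal_centralizer
  have hWC : W ≤ centralizer (F' : Set G) := by
    refine normalClosure_le_normal (Set.singleton_subset_iff.2 (mem_centralizer_iff.2 ?_))
    have hle : F' ≤ centralizer ({z} : Set G) := iSup₂_le fun s hs a ha =>
      mem_centralizer_singleton_iff.2 (hc s hs.1 hs.2 a ha).symm.eq
    exact fun a ha => mem_centralizer_singleton_iff.1 (hle ha)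
  haveI : (Cfsg.pCore p (G ⧸ Cfsg.fittingSubgroup G)).Normal := Grp.pCore_isNormal
  have hWP : W ≤ (Cfsg.pCore p (G ⧸ Cfsg.fittingSubgroup G)).comap f := by
    refine normalClosure_le_normal (Set.singleton_subset_iff.2 ?_)
    refine Grp.mem_pCore_of_mem_fitting hz2 ?_
    rw [← MonoidHom.map_zpowers]
    exact hz.map f
  haveI : (Cfsg.pCore p G).Normal := Grp.pCore_isNormal
  have hFle : Cfsg.fittingSubgroup G ≤ Cfsg.pCore p G ⊔ F' := by
    rw [Grp.fittingSubgroup_eq_iSup_pCore]
    refine iSup_le fun s => ?_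
    by_cases hs : (s : ℕ) = p
    · rw [hs]; exact le_sup_left
    · exact (le_iSup₂_of_le (f := fun t (_ : t ∈ {t : ℕ | t.Prime ∧ t ≠ p}) => Cfsg.pCore t G)
        (s : ℕ) ⟨s.2, hs⟩ le_rfl).trans le_sup_right
  have hpow : IsPGroup p (W ⧸ center W) := by
    intro c
    induction c using QuotientGroup.induction_on with
    | _ c =>
      obtain ⟨i, hi⟩ := Grp.pCore_isPGroup (p := p) ⟨f c, hWP c.2⟩
      have h1 : (c : G) ^ p ^ i ∈ Cfsg.fittingSubgroup G :=
        (QuotientGroup.eq_one_iff _).1 ((map_pow f _ _).trans (congrArg Subtype.val hi))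
      have h2 := hFle h1
      rw [← SetLike.mem_coe, normal_mul] at h2
      obtain ⟨t, ht, b, hb, he⟩ := Set.mem_mul.1 h2
      obtain ⟨j, hj⟩ := Grp.pCore_isPGroup (p := p) ⟨t, ht⟩
      have hj' : t ^ p ^ j = 1 := by simpa using congrArg Subtype.val hj
      have h3 : (c : G) ^ p ^ (i + j) ∈ F' := by
        refine (QuotientGroup.eq_one_iff _).1 ?_
        show QuotientGroup.mk' F' _ = 1
        rw [pow_add, pow_mul, ← he, map_pow, map_mul,
          show QuotientGroup.mk' F' b = 1 from (QuotientGroup.eq_one_iff b).2 hb, mul_one, ← map_pow,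
          hj', map_one]
      refine ⟨i + j, ?_⟩
      rw [← QuotientGroup.mk_pow, QuotientGroup.eq_one_iff, Subgroup.mem_center_iff]
      intro w
      refine Subtype.ext ?_
      rw [Subgroup.coe_mul, Subgroup.coe_mul, SubmonoidClass.coe_pow]
      exact (mem_centralizer_iff.1 (hWC w.2) _ h3).symm
  haveI : Group.IsNilpotent W := Group.of_quotient_center_nilpotent hpow.isNilpotent
  exact Grp.le_fittingSubgroup normalClosure_normal inferInstance
    (subset_normalClosure (Set.mem_singleton z))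

theorem mem_ftwo_of_two (V W : Subgroup G) [V.Normal] [W.Normal] (hd : V ⊓ W = ⊥)
    (hV : QuotientGroup.mk' V x ∈ ftwo (G ⧸ V)) (hW : QuotientGroup.mk' W x ∈ ftwo (G ⧸ W)) :
    x ∈ ftwo G := by
  haveI : (Cfsg.fittingSubgroup (G ⧸ V)).Normal := Grp.fittingSubgroup_isNormal
  haveI : (Cfsg.fittingSubgroup (G ⧸ W)).Normal := Grp.fittingSubgroup_isNormal
  set a := (QuotientGroup.mk' (Cfsg.fittingSubgroup (G ⧸ V))).comp (QuotientGroup.mk' V)
  set b := (QuotientGroup.mk' (Cfsg.fittingSubgroup (G ⧸ W))).comp (QuotientGroup.mk' W)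
  refine le_ftwo (N := (ftwo (G ⧸ V)).comap (QuotientGroup.mk' V) ⊓
    (ftwo (G ⧸ W)).comap (QuotientGroup.mk' W)) ?_ (a.prod b) ?_ ?_ ⟨hV, hW⟩
  · haveI : (ftwo (G ⧸ V)).Normal := ftwo_normal
    haveI : (ftwo (G ⧸ W)).Normal := ftwo_normal
    exact Subgroup.normal_inf_normal _ _
  · refine Grp.le_fittingSubgroup inferInstance ?_
    haveI := Grp.fittingSubgroup_isNilpotent (G := G ⧸ V)
    haveI := Grp.fittingSubgroup_isNilpotent (G := G ⧸ W)
    have hk1 : ∀ k : (a.prod b).ker, QuotientGroup.mk' V (k : G) ∈ Cfsg.fittingSubgroup (G ⧸ V) :=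
      fun k => (QuotientGroup.eq_one_iff _).1 (congrArg Prod.fst k.2)
    have hk2 : ∀ k : (a.prod b).ker, QuotientGroup.mk' W (k : G) ∈ Cfsg.fittingSubgroup (G ⧸ W) :=
      fun k => (QuotientGroup.eq_one_iff _).1 (congrArg Prod.snd k.2)
    let h := (((QuotientGroup.mk' V).comp (a.prod b).ker.subtype).codRestrict _ hk1).prod
      (((QuotientGroup.mk' W).comp (a.prod b).ker.subtype).codRestrict _ hk2)
    refine Subgroup.isNilpotent_of_ker_le_center h fun k hk => ?_
    have e1 : (k : G) ∈ V := (QuotientGroup.eq_one_iff _).1 (congrArg (fun t => (t.1 : G ⧸ V)) hk)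
    have e2 : (k : G) ∈ W := (QuotientGroup.eq_one_iff _).1 (congrArg (fun t => (t.2 : G ⧸ W)) hk)
    have e : k = 1 := Subtype.ext (mem_bot.1 (hd.le ⟨e1, e2⟩))
    rw [e]; exact one_mem _
  · haveI := isNilpotent_ftwo_map (G := G ⧸ V)
    haveI := isNilpotent_ftwo_map (G := G ⧸ W)
    refine Grp.isNilpotent_of_le (K := ((ftwo (G ⧸ V)).map (QuotientGroup.mk' _)).prod
      ((ftwo (G ⧸ W)).map (QuotientGroup.mk' _))) ?_
      (Group.nilpotent_of_mulEquiv (Subgroup.prodEquiv _ _).symm)
    rintro _ ⟨c, hc, rfl⟩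
    exact ⟨⟨_, hc.1, rfl⟩, ⟨_, hc.2, rfl⟩⟩

/-- The soluble case for an element of prime power order. -/
theorem mem_ftwo_of_solvable
    (ih : ∀ (K : Type u) [Group K] [Finite K], Nat.card K < Nat.card G →
      ∀ z : K, Good K z → z ∈ ftwo K)
    (hsol : Group.IsSolvable G) (hx : Good G x) (hxp : IsPGroup p (zpowers x)) : x ∈ ftwo G := by
  by_contra hne
  have hnt : (⊤ : Subgroup G) ≠ ⊥ := fun e => hne (by
    rw [mem_bot.1 (e.le (mem_top x))]; exact one_mem _)
  obtain ⟨V, hVn, hV1, -, hmin⟩ := Grp.exists_minimal_normal_le hnt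
  haveI := hVn
  have hquot : ∀ (W : Subgroup G) [W.Normal], W ≠ ⊥ → QuotientGroup.mk' W x ∈ ftwo (G ⧸ W) :=
    fun W _ hW => ih _ (Grp.card_quotient_lt hW) _ (hx.map (QuotientGroup.mk'_surjective W))
  have huniq : ∀ W : Subgroup G, W.Normal → W ≠ ⊥ → V ≤ W := fun W hW hW1 => by
    haveI := hW
    rcases hmin (V ⊓ W) (Subgroup.normal_inf_normal _ _) inf_le_left with h | h
    · exact absurd (mem_ftwo_of_two V W h (hquot V hV1) (hquot W hW1)) hne
    · exact inf_eq_left.1 h
  obtain ⟨hVc, q, hq, hVq⟩ :=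
    Grp.minimal_normal_solvable (Grp.isSolvable_of_le (le_top : V ≤ ⊤)
      (Group.isSolvable_of_surjective (f := (Subgroup.topEquiv (G := G)).symm.toMonoidHom)
        Subgroup.topEquiv.symm.surjective)) hV1 hmin
  haveI := Fact.mk hq
  have hVP : IsPGroup q V := fun a => ⟨1, by simpa using Subtype.ext (hVq a a.2)⟩
  have hcomm : ∀ a ∈ V, ∀ b ∈ V, Commute a b := fun a ha b hb =>
    congrArg Subtype.val (hVc.is_comm.comm ⟨a, ha⟩ ⟨b, hb⟩)
  haveI : (Cfsg.fittingSubgroup (G ⧸ V)).Normal := Grp.fittingSubgroup_isNormal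
  haveI : (ftwo (G ⧸ V)).Normal := ftwo_normal
  have hπ := QuotientGroup.mk'_surjective V
  -- a complement
  obtain ⟨M, hM, hVM⟩ : ∃ M : Subgroup G, IsCoatom M ∧ ¬ V ≤ M := by
    by_contra hcon
    push Not at hcon
    refine hne (le_ftwo (N := (ftwo (G ⧸ V)).comap (QuotientGroup.mk' V)) inferInstance
      ((QuotientGroup.mk' (Cfsg.fittingSubgroup (G ⧸ V))).comp (QuotientGroup.mk' V)) ?_ ?_
      (hquot V hV1))
    · rw [← MonoidHom.comap_ker, QuotientGroup.ker_mk']
      refine Grp.le_fittingSubgroup inferInstance (Grp.nilpotent_of_quotient_frattini _ V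
        (le_iInf₂ fun M hM => hcon M hM) ?_)
      rw [map_comap_eq_self_of_surjective hπ]
      exact Grp.fittingSubgroup_isNilpotent
    · rw [← map_map, map_comap_eq_self_of_surjective hπ]
      exact isNilpotent_ftwo_map
  have hMV : M ⊔ V = ⊤ := hM.2 _ (lt_of_le_of_ne le_sup_left fun e => hVM (e ▸ le_sup_right))
  haveI : (centralizer (V : Set G)).Normal := Subgroup.normal_centralizer
  -- the centraliser of `V`
  have hCV : ∀ c : G, (∀ v ∈ V, Commute c v) → c ∈ V := by
    intro c hc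
    have hCn : (centralizer (V : Set G) ⊓ M).Normal := by
      refine ⟨fun a ha g => ?_⟩
      have hg : g ∈ M ⊔ V := hMV ▸ mem_top g
      rw [← SetLike.mem_coe, mul_normal] at hg
      obtain ⟨m, hm, v, hv, rfl⟩ := Set.mem_mul.1 hg
      have e : m * v * a * (m * v)⁻¹ = m * a * m⁻¹ := by
        rw [show m * v * a * (m * v)⁻¹ = m * (v * a) * v⁻¹ * m⁻¹ by group,
          mem_centralizer_iff.1 ha.1 v hv]
        group
      exact ⟨(inferInstance : (centralizer (V : Set G)).Normal).conj_mem a ha.1 _,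
        e ▸ M.mul_mem (M.mul_mem hm ha.2) (M.inv_mem hm)⟩
    by_cases hb : centralizer (V : Set G) ⊓ M = ⊥
    swap
    · exact absurd ((huniq _ hCn hb).trans inf_le_right) hVM
    have hc' : c ∈ M ⊔ V := hMV ▸ mem_top c
    rw [← SetLike.mem_coe, mul_normal] at hc'
    obtain ⟨m, hm, v, hv, rfl⟩ := Set.mem_mul.1 hc'
    have hmC : m ∈ centralizer (V : Set G) := by
      refine mem_centralizer_iff.2 fun w hw => ?_
      have h := (hc w hw).mul_left (hcomm v hv w hw).inv_left
      rw [mul_inv_cancel_right] at h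
      exact h.symm.eq
    rw [mem_bot.1 (hb.le ⟨hmC, hm⟩), one_mul]
    exact hv
  haveI : (Cfsg.fittingSubgroup G).Normal := Grp.fittingSubgroup_isNormal
  have hVF : V ≤ Cfsg.fittingSubgroup G := Grp.le_fittingSubgroup hVn hVP.isNilpotent
  have hFV : Cfsg.fittingSubgroup G ≤ V := by
    haveI := Grp.fittingSubgroup_isNilpotent (G := G)
    haveI : (centralizer (Cfsg.fittingSubgroup G : Set G)).Normal := Subgroup.normal_centralizer
    haveI : (V.subgroupOf (Cfsg.fittingSubgroup G)).Normal := hVn.subgroupOf _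
    have hne' := Grp.inf_center_ne_bot (V.subgroupOf (Cfsg.fittingSubgroup G)) fun e =>
      hV1 (eq_bot_iff.2 fun a ha => mem_bot.2 (congrArg Subtype.val
        (mem_bot.1 (e.le (mem_subgroupOf.2 ha : (⟨a, hVF ha⟩ : Cfsg.fittingSubgroup G) ∈ _)))))
    obtain ⟨z, hz, hz1⟩ := (bot_or_exists_ne_one _).resolve_left hne'
    rcases hmin (V ⊓ centralizer (Cfsg.fittingSubgroup G : Set G))
      (Subgroup.normal_inf_normal _ _) inf_le_left with h | h
    · refine absurd (Subtype.ext (mem_bot.1 (h.le ⟨hz.1, mem_centralizer_iff.2 fun a ha => ?_⟩))) hz1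
      exact congrArg Subtype.val (Subgroup.mem_center_iff.1 hz.2 ⟨a, ha⟩)
    · intro a ha
      exact hCV a fun v hv => mem_centralizer_iff.1 (h.ge hv).2 a ha
  -- no q-core above `V`
  have hOq : ∀ a ∈ Cfsg.pCore q (G ⧸ V), a = 1 := by
    intro a ha
    obtain ⟨a, rfl⟩ := hπ a
    haveI : (Cfsg.pCore q (G ⧸ V)).Normal := Grp.pCore_isNormal
    have hP : IsPGroup q ((Cfsg.pCore q (G ⧸ V)).comap (QuotientGroup.mk' V)) :=
      Grp.pCore_isPGroup.comap_of_ker_isPGroup _ (by rw [QuotientGroup.ker_mk']; exact hVP)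
    exact (QuotientGroup.eq_one_iff a).2 (hFV (Grp.le_fittingSubgroup inferInstance hP.isNilpotent ha))
  refine hne (le_ftwo (N := (Cfsg.fittingSubgroup (G ⧸ V)).comap (QuotientGroup.mk' V)) inferInstance
    (QuotientGroup.mk' V) (by rw [QuotientGroup.ker_mk']; exact hVF) ?_
    (mem_fitting_of_centralizes (p := p) ?_ (hquot V hV1) ?_))
  · rw [map_comap_eq_self_of_surjective hπ]
    exact Grp.fittingSubgroup_isNilpotent
  · rw [← MonoidHom.map_zpowers]
    exact hxp.map _
  intro s hs hsp w hw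
  by_contra hmov
  haveI := Fact.mk hs
  have hsq : s ≠ q := fun e => hmov (by rw [hOq w (e ▸ hw)]; exact Commute.one_right _)
  obtain ⟨y, rfl⟩ := hπ w
  set Kq := closure ({QuotientGroup.mk' V x, QuotientGroup.mk' V y} : Set (G ⧸ V)) with hKq
  by_cases hK : Kq = ⊤
  · -- the pair generates above `V`: it can be lifted
    set R := (Cfsg.pCore s (G ⧸ V)).comap (QuotientGroup.mk' V) with hR
    haveI : (Cfsg.pCore s (G ⧸ V)).Normal := Grp.pCore_isNormal
    have hL : Powell.Layer s true V R := by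
      refine Powell.Layer.mk' inferInstance (fun a ha => mem_comap.2 ?_) (fun a ha => ?_) ?_
      · rw [show QuotientGroup.mk' V a = 1 from (QuotientGroup.eq_one_iff a).2 ha]
        exact one_mem _
      · exact Nat.Coprime.coprime_dvd_left (orderOf_dvd_of_pow_eq_one (hVq a ha))
          ((Nat.coprime_primes hq hs).2 hsq.symm)
      · rw [hR, map_comap_eq_self_of_surjective hπ]
        intro a ha
        obtain ⟨k, hk⟩ := Grp.pCore_isPGroup (p := s) ⟨a, ha⟩
        exact ⟨k, by simpa using congrArg Subtype.val hk⟩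
    have hA : Powell.AbLayer s true V R := by
      refine ⟨hL, hVc, hmin, fun h => hmov ?_⟩
      rw [show QuotientGroup.mk' V y = 1 from
        (QuotientGroup.eq_one_iff y).2 (hCV y fun v hv => h y (mem_comap.2 hw) v hv)]
      exact Commute.one_right _
    have hgen : closure ({x, y} : Set G) ⊔ V = ⊤ := by
      have h := congrArg (Subgroup.comap (QuotientGroup.mk' V)) hK
      rwa [hKq, comap_top, ← Set.image_pair, ← MonoidHom.map_closure, comap_map_eq,
        QuotientGroup.ker_mk'] at h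
    obtain ⟨n, -, hn⟩ := hA.exists_generate hgen (by
      by_contra hcon
      push Not at hcon
      exact hmov (by
        rw [show QuotientGroup.mk' V x = 1 from (QuotientGroup.eq_one_iff x).2 (hCV x hcon)]
        exact Commute.one_left _))
    exact hne (hx.mem_of_gen hn)
  -- a proper overgroup
  set H := Kq.comap (QuotientGroup.mk' V) with hH
  have hHt : H ≠ ⊤ := fun e => hK (by
    rw [← map_comap_eq_self_of_surjective hπ Kq, ← hH, e, map_top_of_surjective _ hπ])
  have hxH : x ∈ H := mem_comap.2 (Subgroup.subset_closure (by simp))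
  have hyH : y ∈ H := mem_comap.2 (Subgroup.subset_closure (by simp))
  have hVH : V ≤ H := fun a ha => mem_comap.2 (by
    rw [show QuotientGroup.mk' V a = 1 from (QuotientGroup.eq_one_iff a).2 ha]; exact one_mem _)
  have hx2 := ih H (Grp.card_lt_of_ne_top hHt) ⟨x, hxH⟩ (hx.subgroup hxH)
  haveI : (Cfsg.fittingSubgroup H).Normal := Grp.fittingSubgroup_isNormal
  set g := QuotientGroup.mk' (Cfsg.fittingSubgroup H)
  set f : H →* G ⧸ V := (QuotientGroup.mk' V).comp H.subtype
  haveI : (V.subgroupOf H).Normal := hVn.subgroupOf H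
  haveI : (Cfsg.pCore q H).Normal := Grp.pCore_isNormal
  have hVq' : V.subgroupOf H ≤ Cfsg.pCore q H := Grp.le_pCore inferInstance hVP.comap_subtype
  have himg : ∀ a ∈ Cfsg.fittingSubgroup H, f a ∈ (Cfsg.pCore q H).map f := by
    suffices h : Cfsg.fittingSubgroup H ≤ ((Cfsg.pCore q H).map f).comap f from h
    rw [Grp.fittingSubgroup_eq_iSup_pCore]
    refine iSup_le fun r => ?_
    by_cases hr : (r : ℕ) = q
    · rw [hr]; exact le_comap_map _ _
    haveI := Fact.mk r.2
    haveI : (Cfsg.pCore (r : ℕ) H).Normal := Grp.pCore_isNormal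
    intro a ha
    have hcop : (Nat.card (Cfsg.pCore (r : ℕ) H)).Coprime (Nat.card (Cfsg.pCore q H)) := by
      obtain ⟨i, hi⟩ := IsPGroup.iff_card.1 (Grp.pCore_isPGroup (p := (r : ℕ)) (G := H))
      obtain ⟨j, hj⟩ := IsPGroup.iff_card.1 (Grp.pCore_isPGroup (p := q) (G := H))
      rw [hi, hj]
      exact Nat.Coprime.pow _ _ ((Nat.coprime_primes r.2 hq).2 hr)
    have haV : (a : G) ∈ V := hCV a fun v hv => (congrArg Subtype.val
      (mem_centralizer_iff.1 (Grp.commute_of_coprime_normal hcop ha) ⟨v, hVH hv⟩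
        (hVq' (mem_subgroupOf.2 hv)))).symm
    rw [mem_comap, show f a = 1 from (QuotientGroup.eq_one_iff _).2 haV]
    exact one_mem _
  have hgx : g ⟨x, hxH⟩ ∈ Cfsg.pCore p (H ⧸ Cfsg.fittingSubgroup H) := by
    refine Grp.mem_pCore_of_mem_fitting hx2 ?_
    rw [← MonoidHom.map_zpowers]
    refine IsPGroup.map ?_ g
    exact IsPGroup.of_injective hxp (((H.subtype).comp (zpowers (⟨x, hxH⟩ : H)).subtype).codRestrict
      (zpowers x) fun a => by
        obtain ⟨i, hi⟩ := mem_zpowers_iff.1 a.2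
        exact mem_zpowers_iff.2 ⟨i, congrArg Subtype.val hi⟩) fun a b h =>
      Subtype.ext (Subtype.ext (congrArg (fun t : zpowers x => (t : G)) h))
  set c : H := ⟨y, hyH⟩ * ⟨x, hxH⟩ * ⟨y, hyH⟩⁻¹ * ⟨x, hxH⟩⁻¹ with hc
  have hgc : g c ∈ Cfsg.pCore p (H ⧸ Cfsg.fittingSubgroup H) := by
    rw [hc, map_mul, map_mul, map_mul, map_inv, map_inv]
    exact mul_mem (Grp.pCore_isNormal.conj_mem _ hgx _) (inv_mem hgx)
  obtain ⟨i, hi⟩ := Grp.pCore_isPGroup (p := p) ⟨g c, hgc⟩
  have hcF : c ^ p ^ i ∈ Cfsg.fittingSubgroup H :=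
    (QuotientGroup.eq_one_iff _).1 ((map_pow g c _).trans (congrArg Subtype.val hi))
  obtain ⟨j, hj⟩ := (Grp.pCore_isPGroup (p := q) (G := H)).map f ⟨_, himg _ hcF⟩
  have h1 : f c ^ (p ^ i * q ^ j) = 1 := by
    rw [pow_mul, ← map_pow]
    exact congrArg Subtype.val hj
  have hfS : f c ∈ Cfsg.pCore s (G ⧸ V) := by
    have e : f c = QuotientGroup.mk' V y *
        (QuotientGroup.mk' V x * (QuotientGroup.mk' V y)⁻¹ * (QuotientGroup.mk' V x)⁻¹) := by
      simp [f, hc, mul_assoc]
    rw [e]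
    exact mul_mem hw (Grp.pCore_isNormal.conj_mem _ (inv_mem hw) _)
  obtain ⟨l, hl⟩ := Grp.pCore_isPGroup (p := s) ⟨f c, hfS⟩
  have h2 : f c ^ s ^ l = 1 := by simpa using congrArg Subtype.val hl
  have h3 : f c = 1 := by
    refine orderOf_eq_one_iff.1 (Nat.eq_one_of_dvd_coprimes ?_ (orderOf_dvd_of_pow_eq_one h1)
      (orderOf_dvd_of_pow_eq_one h2))
    exact Nat.Coprime.mul_left (Nat.Coprime.pow _ _ ((Nat.coprime_primes hp.out hs).2 hsp.symm))
      (Nat.Coprime.pow _ _ ((Nat.coprime_primes hq hs).2 hsq.symm))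
  refine hmov (commute_of_cm (w := QuotientGroup.mk' V y) (y := QuotientGroup.mk' V x) ?_).symm
  simpa [f, hc, mul_assoc] using h3

/-- The minimal counterexample. -/
theorem mem_ftwo_of_good : ∀ (n : ℕ) (G : Type u) [Group G] [Finite G], Nat.card G = n →
    ∀ x : G, Good G x → x ∈ ftwo G := by
  intro n
  induction n using Nat.strong_induction_on with
  | _ n ih =>
  intro G _ _ hn x hx
  have ih' : ∀ (K : Type u) [Group K] [Finite K], Nat.card K < Nat.card G →
      ∀ z : K, Good K z → z ∈ ftwo K := fun K _ _ hlt z hz => ih _ (hn ▸ hlt) K rfl z hz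
  by_cases hsol : Group.IsSolvable G
  · refine mem_of_primePow_parts fun z hz p k hp hord => ?_
    haveI := Fact.mk hp
    obtain ⟨i, rfl⟩ := mem_zpowers_iff.1 hz
    exact mem_ftwo_of_solvable ih' hsol (hx.zpow i)
      (IsPGroup.of_card (n := k) (by rw [Nat.card_zpowers, hord]))
  by_cases hN : ∃ N : Subgroup G, N.Normal ∧ Group.IsSolvable N ∧ N ≠ ⊥
  · obtain ⟨N, hNn, hNs, hN1⟩ := hN
    haveI := hNn
    haveI : (ftwo (G ⧸ N)).Normal := ftwo_normal
    set M := (ftwo (G ⧸ N)).comap (QuotientGroup.mk' N)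
    have hxM : x ∈ M := ih' _ (Grp.card_quotient_lt hN1) _ (hx.map (QuotientGroup.mk'_surjective N))
    have hMs : Group.IsSolvable M := by
      haveI := hNs
      haveI : Group.IsSolvable (M.map (QuotientGroup.mk' N)) :=
        Grp.isSolvable_of_le (map_comap_le _ _) isSolvable_ftwo
      refine Group.isSolvable_of_ker_le_range (Subgroup.inclusion (show N ≤ M from fun a ha => by
        rw [mem_comap, show QuotientGroup.mk' N a = 1 from (QuotientGroup.eq_one_iff a).2 ha]
        exact one_mem _)) ((QuotientGroup.mk' N).subgroupMap M) fun a ha => ?_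
      exact ⟨⟨a, (QuotientGroup.eq_one_iff (a : G)).1 (congrArg Subtype.val ha)⟩, rfl⟩
    have hMt : M ≠ ⊤ := fun e => hsol (by
      haveI := hMs
      exact Group.isSolvable_of_surjective (f := M.subtype) fun a => ⟨⟨a, e ▸ mem_top a⟩, rfl⟩)
    haveI : M.Normal := inferInstance
    exact ftwo_char_map_le ⟨⟨x, hxM⟩, ih' _ (Grp.card_lt_of_ne_top hMt) _ (hx.subgroup hxM), rfl⟩
  push Not at hN
  by_contra hne
  have hx1 : orderOf x ≠ 1 := fun e => hne (by rw [orderOf_eq_one_iff.1 e]; exact one_mem _)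
  obtain ⟨p, hp, hdvd⟩ := Nat.exists_prime_and_dvd hx1
  haveI := Fact.mk hp
  set x' := x ^ (orderOf x / p) with hx'
  have hord : orderOf x' = p := orderOf_pow_orderOf_div (orderOf_pos x).ne' hdvd
  have hgood : Good G x' := by
    rw [hx', ← zpow_natCast]; exact hx.zpow _
  have hbot : ftwo G = ⊥ := hN _ ftwo_normal isSolvable_ftwo
  have S : Setting p x' := by
    refine ⟨fun g => ?_, hN, ?_⟩
    · have hg : Good G (g * x' * g⁻¹) :=
        hgood.map (f := (MulAut.conj g).toMonoidHom) (MulAut.conj g).surjective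
      have ho : orderOf (g * x' * g⁻¹) = p := (MulEquiv.orderOf_eq (MulAut.conj g) x').trans hord
      refine ⟨ho, fun H hH hy => ih' H (Grp.card_lt_of_ne_top hH) _ (hg.subgroup hy), fun y hy => ?_⟩
      have h1 := hg.mem_of_gen hy
      rw [hbot, mem_bot] at h1
      rw [h1, orderOf_one] at ho
      exact hp.ne_one ho.symm
    · by_contra hC
      set N := normalClosure ({x'} : Set G)
      set C := centralizer (N : Set G)
      haveI : C.Normal := Subgroup.normal_centralizer
      haveI : (ftwo (G ⧸ C)).Normal := ftwo_normal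
      have hNle : N ≤ (ftwo (G ⧸ C)).comap (QuotientGroup.mk' C) :=
        normalClosure_le_normal (Set.singleton_subset_iff.2
          (ih' _ (Grp.card_quotient_lt hC) _ (hgood.map (QuotientGroup.mk'_surjective C))))
      haveI : Group.IsSolvable (N.map (QuotientGroup.mk' C)) :=
        Grp.isSolvable_of_le (map_le_iff_le_comap.2 hNle) isSolvable_ftwo
      haveI : Group.IsSolvable ↥(N ⊓ C) := Group.isSolvable_of_comm fun a b =>
        Subtype.ext (mem_centralizer_iff.1 b.2.2 a a.2.1)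
      have hNs : Group.IsSolvable N := by
        refine Group.isSolvable_of_ker_le_range (Subgroup.inclusion (inf_le_left : N ⊓ C ≤ N))
          ((QuotientGroup.mk' C).subgroupMap N) fun a ha => ?_
        exact ⟨⟨a, a.2, (QuotientGroup.eq_one_iff (a : G)).1 (congrArg Subtype.val ha)⟩, rfl⟩
      have h1 : x' = 1 :=
        mem_bot.1 (hN N normalClosure_normal hNs ▸ subset_normalClosure (Set.mem_singleton x'))
      rw [h1, orderOf_one] at hord
      exact hp.ne_one hord.symm
  exact S.false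

end Cfsg.Agent.Fus.F2Pairs
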